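import Cfsg.Agent.S1699
import Cfsg.Agent.Lib.Compute.WordSchur

/-! O'N on 122760 points with a base of three points. -/

set_option autoImplicit false

namespace Cfsg.Agent.Lib.Compute.Sporadic.ON

open Cfsg Cfsg.Agent.Lib.CosetTable
open Cfsg.Agent.Lib.Compute.Schur (prodT)
open Cfsg.Agent.Lib.Compute.WordSchur

/-- The base. -/
def base : List ℕ := [0, 1, 36508]

/-- Images of the base under a product of generators, packed. -/
noncomputable def packKey (B : List ℕ) (u : List ℕ) : ℕ :=
  B.foldr (fun b acc => Nat.add (Nat.shiftLeft acc 20) (ON122760.tab.walk u.reverse b)) 0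

/-- Keys. -/
noncomputable def key : List ℕ → ℕ := packKey base

/-- Generators of O'N. -/
noncomputable abbrev gn : ℕ → Spor.ON := ONPres.gn

theorem base_eq : ONSimple.levels.map (fun q => q.1.get 0) = base := by decide +kernel

theorem natCard_ON : Nat.card Spor.ON = 460815505920 := Cfsg.Agent.S1699.result.2

theorem prodT_eq_eval (f : ℕ → Spor.ON) : ∀ u : List ℕ, prodT f u = eval f u.reverse
  | [] => by simp [prodT, eval]
  | a :: u => by
    rw [List.reverse_cons, eval_append, Schur.prodT_cons, prodT_eq_eval f u]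
    simp [eval]

theorem cons_key (b : ℕ) (B u : List ℕ) :
    packKey (b :: B) u = packKey B u * 2 ^ 20 + ON122760.tab.walk u.reverse b := by
  simp only [packKey, List.foldr_cons]
  rw [← Nat.shiftLeft_eq]
  rfl

theorem walk_of_key {u v : List ℕ} : ∀ {B : List ℕ},
    (∀ b ∈ B, ON122760.tab.walk u.reverse b < 2 ^ 20 ∧ ON122760.tab.walk v.reverse b < 2 ^ 20) →
    packKey B u = packKey B v → ∀ b ∈ B, ON122760.tab.walk u.reverse b = ON122760.tab.walk v.reverse b
  | [], _, _ => by simp
  | b :: B, hb, h => by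
    have hh := hb b (by simp)
    rw [cons_key, cons_key] at h
    have h1 : ON122760.tab.walk u.reverse b = ON122760.tab.walk v.reverse b := by omega
    have h2 : packKey B u = packKey B v := by omega
    intro c hc
    rcases List.mem_cons.1 hc with rfl | hc
    · exact h1
    · exact walk_of_key (fun d hd => hb d (List.mem_cons_of_mem _ hd)) h2 c hc

theorem key_congr {u v : List ℕ} : ∀ {B : List ℕ},
    (∀ b ∈ B, ON122760.tab.walk u.reverse b = ON122760.tab.walk v.reverse b) →
      packKey B u = packKey B v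
  | [], _ => rfl
  | b :: B, h => by
    rw [cons_key, cons_key, h b (by simp), key_congr fun c hc => h c (List.mem_cons_of_mem _ hc)]

variable {φ : Spor.ON →* Equiv.Perm (Fin ON122760.tab.n)}
  (hφ : ∀ g, g < ON122760.cert.k → φ (gn g) = ON122760.checked.perm g)

include hφ in
theorem walk_eq {u : List ℕ} (hu : ∀ a ∈ u, a < 7) (i : Fin ON122760.tab.n) :
    ON122760.tab.walk u.reverse i = (φ (prodT gn u) i : ℕ) := by
  have hl : ∀ a ∈ u.reverse, a < ON122760.cert.k := fun a ha => hu a (List.mem_reverse.1 ha)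
  rw [prodT_eq_eval, Big.Checked.map_eval ON122760.checked ONPres.model_top φ hφ hl,
    ON122760.checked.eval_perm hl]

include hφ in
theorem eq_one_of_fix {x : Spor.ON}
    (h : ∀ i : Fin ON122760.tab.n, (i : ℕ) ∈ base → φ x i = i) : x = 1 := by
  haveI := ONPres.order_le.1
  have hinj := (Big.Checked.natCard_eq ON122760.checked ONPres.model_top φ hφ ONPres.order_le
    ONSimple.levels ONSimple.levels_ok ONSimple.levels_card).2
  have hle := Big.levelsCard_mul_le ON122760.checked ONSimple.levels ONSimple.levels_ok φ.range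
    fun w hw => ⟨eval gn w, Big.Checked.map_eval ON122760.checked ONPres.model_top φ hφ
      (ONSimple.levels_ok.words_lt w hw)⟩
  have hr : Nat.card φ.range ≤ 460815505920 :=
    (Nat.card_le_card_of_surjective _ φ.rangeRestrict_surjective).trans ONPres.order_le.2
  rw [ONSimple.levels_card] at hle
  have hle1 : Nat.card (Big.fixBase φ.range ONSimple.levels) ≤ 1 := by omega
  have hmem : ∀ (y : Spor.ON) (L : List (Big.Orb × List (List ℕ))),
      (∀ q ∈ L, ∀ i : Fin ON122760.tab.n, (i : ℕ) = q.1.get 0 → φ y i = i) →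
      φ y ∈ Big.fixBase φ.range L := by
    intro y L
    induction L with
    | nil => intro _; exact ⟨y, rfl⟩
    | cons q L ih =>
      intro hq
      exact ⟨ih fun r hr => hq r (List.mem_cons_of_mem _ hr), hq q (by simp)⟩
  have hx := hmem x ONSimple.levels fun q hq i hi =>
    h i (hi ▸ base_eq ▸ List.mem_map.2 ⟨q, hq, rfl⟩)
  have h1 := hmem 1 ONSimple.levels fun q hq i hi => by simp
  haveI := Finite.card_le_one_iff_subsingleton.mp hle1
  exact hinj (congrArg Subtype.val (Subsingleton.elim
    (⟨_, hx⟩ : Big.fixBase φ.range ONSimple.levels) ⟨_, h1⟩))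

theorem base_lt : ∀ b ∈ base, b < ON122760.tab.n := by decide +kernel

theorem key_sound : KeySound gn 7 key := by
  intro u v hu hv h
  obtain ⟨φ, hφ⟩ := ONPres.exists_action
  have hn : ON122760.tab.n = 122760 := rfl
  have hw := walk_of_key (fun b hb => by
    rw [show b = ((⟨b, base_lt b hb⟩ : Fin ON122760.tab.n) : ℕ) from rfl, walk_eq hφ hu,
      walk_eq hφ hv]
    constructor <;> exact lt_of_lt_of_le (Fin.isLt _) (by norm_num [hn])) h
  refine inv_mul_eq_one.1 (eq_one_of_fix hφ fun i hi => ?_)
  have := hw i hi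
  rw [walk_eq hφ hu, walk_eq hφ hv] at this
  rw [map_mul, map_inv, Equiv.Perm.mul_apply, ← Fin.ext this]
  exact Equiv.symm_apply_apply _ _

theorem key_eq (u v : List ℕ) (hu : ∀ a ∈ u, a < 7) (hv : ∀ a ∈ v, a < 7)
    (h : prodT gn u = prodT gn v) : key u = key v := by
  obtain ⟨φ, hφ⟩ := ONPres.exists_action
  refine key_congr fun b hb => ?_
  have hu' := walk_eq hφ hu ⟨b, base_lt b hb⟩
  have hv' := walk_eq hφ hv ⟨b, base_lt b hb⟩
  rw [h] at hu'
  exact hu'.trans hv'.symm

end Cfsg.Agent.Lib.Compute.Sporadic.ON
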