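import Cfsg.Agent.Lib.Compute.Sporadic.ON.LiftData
import Cfsg.Agent.Lib.CosetTable.Sound
import Cfsg.Agent.Lib.CosetTable.ON122760.Data

/-! Charges along words in the threefold lift of the action of O'N. -/

set_option autoImplicit false

namespace Cfsg.Agent.Lib.Compute.Sporadic.ON

open Cfsg.Agent.Lib.CosetTable

/-- Charge of a generator at a point. -/
noncomputable def chg (g i : ℕ) : ℕ :=
  Nat.land (Nat.shiftRight ((Big.treeAt charges g).leafAt (Nat.div i 2048))
    (Nat.mul (Nat.mod i 2048) 2)) 3

/-- Charge of a word started at a point, added to `s`. -/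
noncomputable def chargeW (w : List ℕ) : ℕ → ℕ → ℕ :=
  List.rec (motive := fun _ => ℕ → ℕ → ℕ) (fun _ s => s)
    (fun a _ ih i s => force (ON122760.tab.act a i) fun j =>
      force (Nat.add s (chg a i)) fun s' => ih j s') w

/-- Expected charge of a relator. -/
noncomputable def relPairs : List (List ℕ × ℕ) := ON122760.cert.rels.zip relCharge

/-- Check at a point. -/
noncomputable def liftOK (i : ℕ) : Bool :=
  allL (fun q => Nat.beq (Nat.mod (chargeW q.1 i 0) 3) q.2) relPairs

end Cfsg.Agent.Lib.Compute.Sporadic.ON
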