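import Cfsg.Agent.Lib.Compute.Sporadic.ON.LiftOK
import Cfsg.Agent.Lib.CosetTable.ONPres.Index
import Cfsg.Prelude.Def_KGroupFacts
import Cfsg.Agent.S1699

/-!
# A stem extension of O'N with kernel of order three

The action on 122760 points lifts to `Fin 122760 × ZMod 3`: each relator becomes a translation by a
constant, and some constant is not zero.
-/

set_option autoImplicit false

namespace Cfsg.Agent.Lib.Compute.Sporadic.ON

open Cfsg.Agent.Lib.CosetTable
open Cfsg.Spor (coxRelators)

/-- Points of the threefold lift. -/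
abbrev Pt : Type := Fin ON122760.tab.n × ZMod 3

theorem rels_len : relCharge.length = ON122760.cert.rels.length := by decide +kernel

theorem chargeW_cons (a : ℕ) (w : List ℕ) (i s : ℕ) :
    chargeW (a :: w) i s = chargeW w (ON122760.tab.act a i) (s + chg a i) := by
  show force _ (fun j => force _ fun s' => chargeW w j s') = _
  rw [force_eq, force_eq]
  rfl

theorem chargeW_add : ∀ (w : List ℕ) (i s : ℕ), chargeW w i s = chargeW w i 0 + s
  | [], i, s => by simp [chargeW]
  | a :: w, i, s => by
    rw [chargeW_cons, chargeW_cons, chargeW_add w _ (s + chg a i), chargeW_add w _ (0 + chg a i)]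
    omega

theorem rel_charge {w : List ℕ} {k : ℕ} (h : (w, k) ∈ relPairs) (i : Fin ON122760.tab.n) :
    (chargeW w i 0 : ZMod 3) = k := by
  have := allL_spec (lift_ok i i.2) _ h
  rw [← ZMod.natCast_mod]
  exact congrArg _ (beq_iff.mp this)

theorem invol_charge (g : ℕ) (hg : g < 7) : ([g, g], 0) ∈ relPairs := by
  have h : ((List.range 7).all fun g => decide (([g, g], 0) ∈ relPairs)) = true := by decide +kernel
  exact of_decide_eq_true (List.all_eq_true.1 h g (List.mem_range.2 hg))

/-- The lifted generator, as a function. -/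
noncomputable def liftFun (g : ℕ) (p : Pt) : Pt :=
  (ON122760.checked.perm g p.1, p.2 + (chg g p.1 : ZMod 3))

theorem liftFun_invol {g : ℕ} (hg : g < 7) : Function.Involutive (liftFun g) := by
  intro p
  have h := rel_charge (invol_charge g hg) p.1
  rw [chargeW_cons, chargeW_cons] at h
  change ((0 + chg g (p.1 : ℕ) + chg g (ON122760.tab.act g p.1) : ℕ) : ZMod 3) = _ at h
  simp only [zero_add, Nat.cast_add, Nat.cast_zero] at h
  refine Prod.ext ?_ ?_
  · show ON122760.checked.perm g (ON122760.checked.perm g p.1) = p.1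
    rw [← Equiv.Perm.mul_apply, ON122760.checked.perm_invol hg, Equiv.Perm.one_apply]
  · show p.2 + (chg g p.1 : ZMod 3) + (chg g (ON122760.checked.perm g p.1 : ℕ) : ZMod 3) = p.2
    rw [ON122760.checked.perm_apply hg, add_assoc, h, add_zero]

/-- The lifted generator. -/
noncomputable def lperm (g : ℕ) : Equiv.Perm Pt :=
  if hg : g < 7 then (liftFun_invol hg).toPerm else 1

theorem lperm_apply {g : ℕ} (hg : g < 7) (p : Pt) : lperm g p = liftFun g p := by
  simp [lperm, hg]

theorem lperm_sq {g : ℕ} (hg : g < 7) : lperm g * lperm g = 1 := by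
  refine Equiv.ext fun p => ?_
  rw [Equiv.Perm.mul_apply, lperm_apply hg, lperm_apply hg, Equiv.Perm.one_apply]
  exact liftFun_invol hg p

/-- Translation of the fibres. -/
def shift : Equiv.Perm Pt where
  toFun p := (p.1, p.2 + 1)
  invFun p := (p.1, p.2 - 1)
  left_inv p := by simp
  right_inv p := by simp

theorem shift_pow (k : ℕ) (p : Pt) : (shift ^ k) p = (p.1, p.2 + (k : ZMod 3)) := by
  induction k with
  | zero => simp
  | succ k ih =>
    rw [pow_succ', Equiv.Perm.mul_apply, ih]
    show (p.1, p.2 + (k : ZMod 3) + 1) = _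
    push_cast
    rw [add_assoc]

theorem eval_lperm : ∀ {w : List ℕ}, (∀ a ∈ w, a < 7) → ∀ p : Pt,
    eval lperm w p = (eval ON122760.checked.perm w p.1, p.2 + (chargeW w p.1 0 : ZMod 3))
  | [], _, p => by simp [eval, chargeW]
  | a :: w, h, p => by
    simp only [eval, Equiv.Perm.mul_apply]
    rw [lperm_apply (h a (by simp)), eval_lperm (fun b hb => h b (List.mem_cons_of_mem _ hb)),
      chargeW_cons, chargeW_add w _ (0 + chg a p.1)]
    refine Prod.ext rfl ?_
    show p.2 + (chg a p.1 : ZMod 3) + _ = _
    simp only [liftFun, zero_add, Nat.cast_add, ON122760.checked.perm_apply (h a (by simp))]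
    ring

/-- The lifted group. -/
noncomputable def coverGroup : Subgroup (Equiv.Perm Pt) :=
  Subgroup.closure {x | ∃ g, g < 7 ∧ lperm g = x}

/-- The lifted generators as elements of the lifted group. -/
noncomputable def lgen (g : ℕ) : coverGroup :=
  if hg : g < 7 then ⟨lperm g, Subgroup.subset_closure ⟨g, hg, rfl⟩⟩ else 1

theorem lgen_coe {g : ℕ} (hg : g < 7) : (lgen g : Equiv.Perm Pt) = lperm g := by simp [lgen, hg]

/-- The fibre translations in the lifted group. -/
noncomputable def fibre : Subgroup coverGroup := (Subgroup.zpowers shift).subgroupOf coverGroup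

theorem shift_commute {g : ℕ} (hg : g < 7) : lperm g * shift = shift * lperm g := by
  refine Equiv.ext fun p => ?_
  rw [Equiv.Perm.mul_apply, Equiv.Perm.mul_apply, lperm_apply hg, lperm_apply hg]
  show ((ON122760.checked.perm g p.1, p.2 + 1 + (chg g p.1 : ZMod 3)) : Pt) =
    (ON122760.checked.perm g p.1, p.2 + (chg g p.1 : ZMod 3) + 1)
  rw [add_right_comm]

theorem fibre_le_center : fibre ≤ Subgroup.center coverGroup := by
  intro z hz
  rw [Subgroup.mem_center_iff]
  intro x
  refine Subtype.ext ?_
  obtain ⟨k, hk⟩ := Subgroup.mem_zpowers_iff.1 (Subgroup.mem_subgroupOf.1 hz)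
  rw [Subgroup.coe_mul, Subgroup.coe_mul, ← hk]
  have hc : coverGroup ≤ Subgroup.centralizer ({shift} : Set (Equiv.Perm Pt)) := by
    refine (Subgroup.closure_le _).2 ?_
    rintro _ ⟨g, hg, rfl⟩
    exact Subgroup.mem_centralizer_singleton_iff.2 (shift_commute hg)
  have := Subgroup.mem_centralizer_singleton_iff.1 (hc x.2)
  exact ((show Commute (x : Equiv.Perm Pt) shift from this).zpow_right k).eq

instance fibre_normal : fibre.Normal where
  conj_mem z hz g := by
    rw [Subgroup.mem_center_iff.1 (fibre_le_center hz) g, mul_inv_cancel_right]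
    exact hz

theorem eval_rel {w : List ℕ} {k : ℕ} (h : (w, k) ∈ relPairs) : eval lperm w = shift ^ k := by
  have hw : w ∈ ON122760.cert.rels := (List.of_mem_zip h).1
  have hl : ∀ a ∈ w, a < 7 := by
    have h := ON122760.words_ok
    simp only [Cert.wordsOK, Bool.and_eq_true, List.all_eq_true, blt_iff] at h
    exact h.1 w hw
  refine Equiv.ext fun p => ?_
  rw [eval_lperm hl, rel_charge h, ON122760.checked.rel_perm ON122760.words_ok w hw, shift_pow,
    Equiv.Perm.one_apply]

theorem eval_lgen : ∀ {w : List ℕ}, (∀ a ∈ w, a < 7) →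
    ((eval lgen w : coverGroup) : Equiv.Perm Pt) = eval lperm w
  | [], _ => rfl
  | a :: w, h => by
    simp only [eval, Subgroup.coe_mul, lgen_coe (h a (by simp)),
      eval_lgen fun b hb => h b (List.mem_cons_of_mem _ hb)]

theorem eval_map {H K : Type*} [Group H] [Group K] (θ : H →* K) (f : ℕ → H) : ∀ w : List ℕ,
    eval (fun g => θ (f g)) w = θ (eval f w)
  | [] => by simp [eval]
  | a :: w => by simp [eval, eval_map θ f w]

theorem witness_pair : ([1, 3, 2, 6, 1, 3, 2, 6, 1, 3, 2, 6, 1, 3, 2, 6, 1, 3, 2, 6], 1) ∈ relPairs := by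
  decide +kernel

theorem witness_moves : ON122760.tab.act 6 0 ≠ 0 := by decide +kernel

/-- The stem extension. -/
theorem exists_cover : ∃ (X : Type) (_ : Group X) (_ : Finite X) (τ : X →* Cfsg.Spor.ON),
    Cfsg.IsStemExtension τ ∧ Nat.card τ.ker = 3 := by
  haveI := ONPres.order_le.1
  obtain ⟨hsimp, hcard⟩ := Cfsg.Agent.S1699.result
  haveI := hsimp
  let mk : coverGroup →* coverGroup ⧸ fibre := QuotientGroup.mk' fibre
  have hwl : ∀ w ∈ ON122760.cert.rels, ∀ a ∈ w, a < 7 := by
    have h := ON122760.words_ok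
    simp only [Cert.wordsOK, Bool.and_eq_true, List.all_eq_true, blt_iff] at h
    exact h.1
  have hsq : ∀ i, i < 7 → mk (lgen i) * mk (lgen i) = 1 := by
    intro i hi
    have e : lgen i * lgen i = 1 :=
      Subtype.ext (by rw [Subgroup.coe_mul, lgen_coe hi, lperm_sq hi]; rfl)
    rw [← map_mul, e, map_one]
  have hinv : ONPres.Invol (fun i => mk (lgen i)) := by
    rw [ONPres.invol_iff hsq]
    intro w hw
    have hm : w ∈ ON122760.cert.rels := ONPres.rels_eq ▸ hw
    rw [← ONPres.eval_eq_one hsq (hwl w hm), eval_map mk lgen]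
    obtain ⟨j, hj, rfl⟩ := List.getElem_of_mem hm
    refine (QuotientGroup.eq_one_iff _).2 (Subgroup.mem_subgroupOf.2 ?_)
    have hj' : j < relCharge.length := rels_len ▸ hj
    rw [eval_lgen (hwl _ hm), eval_rel (k := relCharge[j]) ?_]
    · exact Subgroup.pow_mem _ (Subgroup.mem_zpowers _) _
    · exact List.mem_iff_getElem.2 ⟨j, by simp [relPairs, hj, hj'], by simp [relPairs]⟩
  obtain ⟨ψ, hψ⟩ := ONPres.exists_hom hinv
  have hsurj : Function.Surjective ψ := by
    have htop : ψ.range.comap mk = ⊤ := by
      rw [eq_top_iff]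
      rintro ⟨x, hx⟩ -
      induction hx using Subgroup.closure_induction with
      | mem y hy =>
        obtain ⟨g, hg, rfl⟩ := hy
        refine Subgroup.mem_comap.2 ⟨ONPres.gn g, ?_⟩
        rw [hψ g hg]
        exact congrArg mk (Subtype.ext (lgen_coe hg))
      | one => exact Subgroup.one_mem _
      | mul a b ha hb ha' hb' => exact Subgroup.mul_mem _ ha' hb'
      | inv a ha ha' => exact Subgroup.inv_mem _ ha'
    intro q
    obtain ⟨x, rfl⟩ := QuotientGroup.mk'_surjective fibre q
    have : x ∈ ψ.range.comap mk := htop ▸ Subgroup.mem_top x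
    exact this
  have hinj : Function.Injective ψ := by
    rw [← MonoidHom.ker_eq_bot_iff]
    refine (Subgroup.Normal.eq_bot_or_eq_top ψ.normal_ker).resolve_right fun htop => ?_
    have h6 : mk (lgen 6) = 1 := by
      rw [← hψ 6 (by norm_num)]
      exact MonoidHom.mem_ker.1 (htop ▸ Subgroup.mem_top _)
    obtain ⟨k, hk⟩ := Subgroup.mem_zpowers_iff.1
      (Subgroup.mem_subgroupOf.1 (show lgen 6 ∈ fibre from (QuotientGroup.eq_one_iff _).1 h6))
    rw [lgen_coe (by norm_num)] at hk
    have hfix : ∀ k : ℤ, ∀ p : Pt, ((shift ^ k) p).1 = p.1 := by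
      intro k
      induction k with
      | zero => simp
      | succ k ih =>
        intro p
        rw [zpow_add_one, Equiv.Perm.mul_apply, ih]
        rfl
      | pred k ih =>
        intro p
        rw [zpow_sub_one, Equiv.Perm.mul_apply, ih]
        rfl
    have h0 : (0 : ℕ) < ON122760.tab.n := ON122760.checked.pos
    have h1 := congrArg (fun q : Equiv.Perm Pt => ((q (⟨0, h0⟩, 0)).1 : ℕ)) hk
    simp only [hfix, lperm_apply (show 6 < 7 by norm_num), liftFun,
      ON122760.checked.perm_apply (show 6 < 7 by norm_num)] at h1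
    exact witness_moves h1.symm
  let e : Cfsg.Spor.ON ≃* coverGroup ⧸ fibre := MulEquiv.ofBijective ψ ⟨hinj, hsurj⟩
  let τ : coverGroup →* Cfsg.Spor.ON := e.symm.toMonoidHom.comp mk
  have hker : τ.ker = fibre := by
    ext x
    simp only [τ, MonoidHom.mem_ker, MonoidHom.comp_apply, MulEquiv.coe_toMonoidHom,
      EmbeddingLike.map_eq_one_iff]
    exact QuotientGroup.eq_one_iff x
  have hτs : Function.Surjective τ := e.symm.surjective.comp (QuotientGroup.mk'_surjective fibre)
  have hperf : commutator Cfsg.Spor.ON = ⊤ := by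
    refine (Subgroup.Normal.eq_bot_or_eq_top (inferInstance : (commutator Cfsg.Spor.ON).Normal)).resolve_left
      fun h => ?_
    haveI : IsMulCommutative Cfsg.Spor.ON := (commutator_eq_bot_iff _).1 h
    letI : CommGroup Cfsg.Spor.ON :=
      { (inferInstance : Group Cfsg.Spor.ON) with
        mul_comm := fun a b => (IsMulCommutative.is_comm).comm a b }
    have hp : (Nat.card Cfsg.Spor.ON).Prime := IsSimpleGroup.prime_card
    rw [hcard] at hp
    rw [show (460815505920 : ℕ) = 2 * 230407752960 by norm_num] at hp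
    exact Nat.not_prime_mul (by norm_num) (by norm_num) hp
  have hcov : commutator coverGroup = ⊤ := by
    have hsup : ∀ x : coverGroup, ∃ c ∈ commutator coverGroup, ∃ z ∈ fibre, x = c * z := by
      intro x
      have hx : τ x ∈ (commutator coverGroup).map τ := by
        rw [commutator_def, Subgroup.map_commutator, Subgroup.map_top_of_surjective τ hτs,
          ← commutator_def, hperf]
        exact Subgroup.mem_top _
      obtain ⟨c, hc, hcx⟩ := hx
      refine ⟨c, hc, c⁻¹ * x, ?_, by group⟩
      rw [← hker, MonoidHom.mem_ker, map_mul, map_inv, hcx, inv_mul_cancel]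
    have hgens : ∀ g, g < 7 → lgen g ∈ commutator coverGroup := by
      intro g hg
      obtain ⟨c, hc, z, hz, hgz⟩ := hsup (lgen g)
      have hsq : lgen g * lgen g = 1 :=
        Subtype.ext (by rw [Subgroup.coe_mul, lgen_coe hg, lperm_sq hg]; rfl)
      have hz3 : z ^ 3 = 1 := by
        obtain ⟨k, hk⟩ := Subgroup.mem_zpowers_iff.1 (Subgroup.mem_subgroupOf.1 hz)
        refine Subtype.ext ?_
        rw [SubmonoidClass.coe_pow, ← hk, ← zpow_natCast, ← zpow_mul, mul_comm, zpow_mul,
          zpow_natCast, show shift ^ 3 = 1 from Equiv.ext fun p => by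
            rw [shift_pow]; rw [ZMod.natCast_self, add_zero]; rfl,
          one_zpow]
        rfl
      have hzz : z * z ∈ commutator coverGroup := by
        have hcz := Subgroup.mem_center_iff.1 (fibre_le_center hz)
        rw [hgz] at hsq
        have h' : (c * c) * (z * z) = 1 := by
          rw [← hsq]
          calc c * c * (z * z) = c * (c * z) * z := by group
            _ = c * (z * c) * z := by rw [hcz c]
            _ = c * z * (c * z) := by group
        rw [eq_inv_of_mul_eq_one_right h']
        exact Subgroup.inv_mem _ (Subgroup.mul_mem _ hc hc)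
      rw [hgz]
      refine Subgroup.mul_mem _ hc ?_
      have : z = (z * z) * (z * z) := by
        calc z = z ^ 3 * z := by rw [hz3, one_mul]
          _ = _ := by simp only [pow_succ, pow_zero, one_mul, mul_assoc]
      rw [this]
      exact Subgroup.mul_mem _ hzz hzz
    rw [eq_top_iff]
    rintro ⟨x, hx⟩ -
    induction hx using Subgroup.closure_induction with
    | mem y hy =>
      obtain ⟨g, hg, rfl⟩ := hy
      have e : lgen g = ⟨lperm g, Subgroup.subset_closure ⟨g, hg, rfl⟩⟩ := Subtype.ext (lgen_coe hg)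
      exact e ▸ hgens g hg
    | one => exact Subgroup.one_mem _
    | mul a b ha hb ha' hb' => exact Subgroup.mul_mem _ ha' hb'
    | inv a ha ha' => exact Subgroup.inv_mem _ ha'
  refine ⟨coverGroup, inferInstance, inferInstance, τ,
    ⟨hτs, hker ▸ fibre_le_center, hcov ▸ le_top⟩, ?_⟩
  rw [hker]
  have hord : orderOf shift = 3 := by
    refine orderOf_eq_prime (Equiv.ext fun p => ?_) fun h => ?_
    · rw [shift_pow]
      rw [ZMod.natCast_self, add_zero]; rfl
    · have := congrArg (fun q : Equiv.Perm Pt => (q (⟨0, ON122760.checked.pos⟩, 0)).2) h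
      simp [shift] at this
  have hmem : shift ∈ coverGroup := by
    have hl : ∀ a ∈ ([1, 3, 2, 6, 1, 3, 2, 6, 1, 3, 2, 6, 1, 3, 2, 6, 1, 3, 2, 6] : List ℕ), a < 7 := by
      decide
    rw [← pow_one shift, ← eval_rel witness_pair, ← eval_lgen hl]
    exact Subtype.coe_prop _
  rw [fibre, Nat.card_congr (Subgroup.subgroupOfEquivOfLe (Subgroup.zpowers_le.2 hmem)).toEquiv,
    Nat.card_zpowers, hord]

end Cfsg.Agent.Lib.Compute.Sporadic.ON
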