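import Cfsg.Agent.Lib.Compute.Sporadic.ON.Charge

/-! Generated checks: relator charges. -/

set_option autoImplicit false
set_option Elab.async false

namespace Cfsg.Agent.Lib.Compute.Sporadic.ON

open Cfsg.Agent.Lib.CosetTable

theorem lift11_run1 : rangeAll liftOK 128 81920 = true := by decide +kernel

theorem lift11_run2 : rangeAll liftOK 128 82048 = true := by decide +kernel

theorem lift11_run3 : rangeAll liftOK 128 82176 = true := by decide +kernel

theorem lift11_run4 : rangeAll liftOK 128 82304 = true := by decide +kernel

theorem lift11_run5 : rangeAll liftOK 128 82432 = true := by decide +kernel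

theorem lift11_run6 : rangeAll liftOK 128 82560 = true := by decide +kernel

theorem lift11_run7 : rangeAll liftOK 128 82688 = true := by decide +kernel

theorem lift11_run8 : rangeAll liftOK 128 82816 = true := by decide +kernel

theorem lift11_run9 : rangeAll liftOK 128 82944 = true := by decide +kernel

theorem lift11_run10 : rangeAll liftOK 128 83072 = true := by decide +kernel

theorem lift11_run11 : rangeAll liftOK 128 83200 = true := by decide +kernel

theorem lift11_run12 : rangeAll liftOK 128 83328 = true := by decide +kernel

theorem lift11_run13 : rangeAll liftOK 128 83456 = true := by decide +kernel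

theorem lift11_run14 : rangeAll liftOK 128 83584 = true := by decide +kernel

theorem lift11_run15 : rangeAll liftOK 128 83712 = true := by decide +kernel

theorem lift11_run16 : rangeAll liftOK 128 83840 = true := by decide +kernel

theorem lift11_run17 : rangeAll liftOK 128 83968 = true := by decide +kernel

theorem lift11_run18 : rangeAll liftOK 128 84096 = true := by decide +kernel

theorem lift11_run19 : rangeAll liftOK 128 84224 = true := by decide +kernel

theorem lift11_run20 : rangeAll liftOK 128 84352 = true := by decide +kernel

theorem lift11_run21 : rangeAll liftOK 128 84480 = true := by decide +kernel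

theorem lift11_run22 : rangeAll liftOK 128 84608 = true := by decide +kernel

theorem lift11_run23 : rangeAll liftOK 128 84736 = true := by decide +kernel

theorem lift11_run24 : rangeAll liftOK 128 84864 = true := by decide +kernel

theorem lift11_run25 : rangeAll liftOK 128 84992 = true := by decide +kernel

theorem lift11_run26 : rangeAll liftOK 128 85120 = true := by decide +kernel

theorem lift11_run27 : rangeAll liftOK 128 85248 = true := by decide +kernel

theorem lift11_run28 : rangeAll liftOK 128 85376 = true := by decide +kernel

theorem lift11_run29 : rangeAll liftOK 128 85504 = true := by decide +kernel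

theorem lift11_run30 : rangeAll liftOK 128 85632 = true := by decide +kernel

theorem lift11_run31 : rangeAll liftOK 128 85760 = true := by decide +kernel

theorem lift11_run32 : rangeAll liftOK 128 85888 = true := by decide +kernel

theorem lift11_run33 : rangeAll liftOK 128 86016 = true := by decide +kernel

theorem lift11_run34 : rangeAll liftOK 128 86144 = true := by decide +kernel

theorem lift11_run35 : rangeAll liftOK 128 86272 = true := by decide +kernel

theorem lift11_run36 : rangeAll liftOK 128 86400 = true := by decide +kernel

theorem lift11_run37 : rangeAll liftOK 128 86528 = true := by decide +kernel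

theorem lift11_run38 : rangeAll liftOK 128 86656 = true := by decide +kernel

theorem lift11_run39 : rangeAll liftOK 128 86784 = true := by decide +kernel

theorem lift11_run40 : rangeAll liftOK 128 86912 = true := by decide +kernel

theorem lift11_run41 : rangeAll liftOK 128 87040 = true := by decide +kernel

theorem lift11_run42 : rangeAll liftOK 128 87168 = true := by decide +kernel

theorem lift11_run43 : rangeAll liftOK 128 87296 = true := by decide +kernel

theorem lift11_run44 : rangeAll liftOK 128 87424 = true := by decide +kernel

theorem lift11_run45 : rangeAll liftOK 128 87552 = true := by decide +kernel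

theorem lift11_run46 : rangeAll liftOK 128 87680 = true := by decide +kernel

theorem lift11_run47 : rangeAll liftOK 128 87808 = true := by decide +kernel

theorem lift11_run48 : rangeAll liftOK 128 87936 = true := by decide +kernel

theorem lift11_run49 : rangeAll liftOK 128 88064 = true := by decide +kernel

theorem lift11_run50 : rangeAll liftOK 128 88192 = true := by decide +kernel

theorem lift11_run51 : rangeAll liftOK 128 88320 = true := by decide +kernel

theorem lift11_run52 : rangeAll liftOK 128 88448 = true := by decide +kernel

theorem lift11_run53 : rangeAll liftOK 128 88576 = true := by decide +kernel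

theorem lift11_run54 : rangeAll liftOK 128 88704 = true := by decide +kernel

theorem lift11_run55 : rangeAll liftOK 128 88832 = true := by decide +kernel

theorem lift11_run56 : rangeAll liftOK 128 88960 = true := by decide +kernel

theorem lift11_run57 : rangeAll liftOK 128 89088 = true := by decide +kernel

theorem lift11_run58 : rangeAll liftOK 128 89216 = true := by decide +kernel

theorem lift11_run59 : rangeAll liftOK 128 89344 = true := by decide +kernel

theorem lift11_run60 : rangeAll liftOK 128 89472 = true := by decide +kernel

theorem lift11_run61 : rangeAll liftOK 128 89600 = true := by decide +kernel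

theorem lift11_run62 : rangeAll liftOK 128 89728 = true := by decide +kernel

theorem lift11_run63 : rangeAll liftOK 128 89856 = true := by decide +kernel

theorem lift11_run64 : rangeAll liftOK 128 89984 = true := by decide +kernel

theorem lift_part11 (P : Below liftOK 81920) : Below liftOK 90112 :=
  ((((((((((((((((((((((((((((((((((((((((((((((((((((((((((((((((P.step (b := 82048) lift11_run1 rfl).step (b := 82176) lift11_run2 rfl).step (b := 82304) lift11_run3 rfl).step (b := 82432) lift11_run4 rfl).step (b := 82560) lift11_run5 rfl).step (b := 82688) lift11_run6 rfl).step (b := 82816) lift11_run7 rfl).step (b := 82944) lift11_run8 rfl).step (b := 83072) lift11_run9 rfl).step (b := 83200) lift11_run10 rfl).step (b := 83328) lift11_run11 rfl).step (b := 83456) lift11_run12 rfl).step (b := 83584) lift11_run13 rfl).step (b := 83712) lift11_run14 rfl).step (b := 83840) lift11_run15 rfl).step (b := 83968) lift11_run16 rfl).step (b := 84096) lift11_run17 rfl).step (b := 84224) lift11_run18 rfl).step (b := 84352) lift11_run19 rfl).step (b := 84480) lift11_run20 rfl).step (b := 84608) lift11_run21 rfl).step (b := 84736) lift11_run22 rfl).step (b := 84864) lift11_run23 rfl).step (b := 84992) lift11_run24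 rfl).step (b := 85120) lift11_run25 rfl).step (b := 85248) lift11_run26 rfl).step (b := 85376) lift11_run27 rfl).step (b := 85504) lift11_run28 rfl).step (b := 85632) lift11_run29 rfl).step (b := 85760) lift11_run30 rfl).step (b := 85888) lift11_run31 rfl).step (b := 86016) lift11_run32 rfl).step (b := 86144) lift11_run33 rfl).step (b := 86272) lift11_run34 rfl).step (b := 86400) lift11_run35 rfl).step (b := 86528) lift11_run36 rfl).step (b := 86656) lift11_run37 rfl).step (b := 86784) lift11_run38 rfl).step (b := 86912) lift11_run39 rfl).step (b := 87040) lift11_run40 rfl).step (b := 87168) lift11_run41 rfl).step (b := 87296) lift11_run42 rfl).step (b := 87424) lift11_run43 rfl).step (b := 87552) lift11_run44 rfl).step (b := 87680) lift11_run45 rfl).step (b := 87808) lift11_run46 rfl).step (b := 87936) lift11_run47 rfl).step (b := 88064) lift11_run48 rfl).step (b := 88192) lift11_run49 rfl).step (b := 88320) lift11_run50 rfl).step (b := 88448) lift11_run51 rfl).step (b := 88576) lift11_run52 rfl).step (b := 88704) lift11_run53 rfl).step (b := 88832) lift11_run54 rfl).step (b := 88960) lift11_run55 rfl).step (b := 89088) lift11_run56 rfl).step (b := 89216) lift11_run57 rfl).step (b := 89344) lift11_run58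 rfl).step (b := 89472) lift11_run59 rfl).step (b := 89600) lift11_run60 rfl).step (b := 89728) lift11_run61 rfl).step (b := 89856) lift11_run62 rfl).step (b := 89984) lift11_run63 rfl).step (b := 90112) lift11_run64 rfl)

end Cfsg.Agent.Lib.Compute.Sporadic.ON
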