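import Cfsg.Agent.Lib.Compute.Sporadic.ON.Charge

/-! Generated checks: relator charges. -/

set_option autoImplicit false
set_option Elab.async false

namespace Cfsg.Agent.Lib.Compute.Sporadic.ON

open Cfsg.Agent.Lib.CosetTable

theorem lift12_run1 : rangeAll liftOK 128 90112 = true := by decide +kernel

theorem lift12_run2 : rangeAll liftOK 128 90240 = true := by decide +kernel

theorem lift12_run3 : rangeAll liftOK 128 90368 = true := by decide +kernel

theorem lift12_run4 : rangeAll liftOK 128 90496 = true := by decide +kernel

theorem lift12_run5 : rangeAll liftOK 128 90624 = true := by decide +kernel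

theorem lift12_run6 : rangeAll liftOK 128 90752 = true := by decide +kernel

theorem lift12_run7 : rangeAll liftOK 128 90880 = true := by decide +kernel

theorem lift12_run8 : rangeAll liftOK 128 91008 = true := by decide +kernel

theorem lift12_run9 : rangeAll liftOK 128 91136 = true := by decide +kernel

theorem lift12_run10 : rangeAll liftOK 128 91264 = true := by decide +kernel

theorem lift12_run11 : rangeAll liftOK 128 91392 = true := by decide +kernel

theorem lift12_run12 : rangeAll liftOK 128 91520 = true := by decide +kernel

theorem lift12_run13 : rangeAll liftOK 128 91648 = true := by decide +kernel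

theorem lift12_run14 : rangeAll liftOK 128 91776 = true := by decide +kernel

theorem lift12_run15 : rangeAll liftOK 128 91904 = true := by decide +kernel

theorem lift12_run16 : rangeAll liftOK 128 92032 = true := by decide +kernel

theorem lift12_run17 : rangeAll liftOK 128 92160 = true := by decide +kernel

theorem lift12_run18 : rangeAll liftOK 128 92288 = true := by decide +kernel

theorem lift12_run19 : rangeAll liftOK 128 92416 = true := by decide +kernel

theorem lift12_run20 : rangeAll liftOK 128 92544 = true := by decide +kernel

theorem lift12_run21 : rangeAll liftOK 128 92672 = true := by decide +kernel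

theorem lift12_run22 : rangeAll liftOK 128 92800 = true := by decide +kernel

theorem lift12_run23 : rangeAll liftOK 128 92928 = true := by decide +kernel

theorem lift12_run24 : rangeAll liftOK 128 93056 = true := by decide +kernel

theorem lift12_run25 : rangeAll liftOK 128 93184 = true := by decide +kernel

theorem lift12_run26 : rangeAll liftOK 128 93312 = true := by decide +kernel

theorem lift12_run27 : rangeAll liftOK 128 93440 = true := by decide +kernel

theorem lift12_run28 : rangeAll liftOK 128 93568 = true := by decide +kernel

theorem lift12_run29 : rangeAll liftOK 128 93696 = true := by decide +kernel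

theorem lift12_run30 : rangeAll liftOK 128 93824 = true := by decide +kernel

theorem lift12_run31 : rangeAll liftOK 128 93952 = true := by decide +kernel

theorem lift12_run32 : rangeAll liftOK 128 94080 = true := by decide +kernel

theorem lift12_run33 : rangeAll liftOK 128 94208 = true := by decide +kernel

theorem lift12_run34 : rangeAll liftOK 128 94336 = true := by decide +kernel

theorem lift12_run35 : rangeAll liftOK 128 94464 = true := by decide +kernel

theorem lift12_run36 : rangeAll liftOK 128 94592 = true := by decide +kernel

theorem lift12_run37 : rangeAll liftOK 128 94720 = true := by decide +kernel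

theorem lift12_run38 : rangeAll liftOK 128 94848 = true := by decide +kernel

theorem lift12_run39 : rangeAll liftOK 128 94976 = true := by decide +kernel

theorem lift12_run40 : rangeAll liftOK 128 95104 = true := by decide +kernel

theorem lift12_run41 : rangeAll liftOK 128 95232 = true := by decide +kernel

theorem lift12_run42 : rangeAll liftOK 128 95360 = true := by decide +kernel

theorem lift12_run43 : rangeAll liftOK 128 95488 = true := by decide +kernel

theorem lift12_run44 : rangeAll liftOK 128 95616 = true := by decide +kernel

theorem lift12_run45 : rangeAll liftOK 128 95744 = true := by decide +kernel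

theorem lift12_run46 : rangeAll liftOK 128 95872 = true := by decide +kernel

theorem lift12_run47 : rangeAll liftOK 128 96000 = true := by decide +kernel

theorem lift12_run48 : rangeAll liftOK 128 96128 = true := by decide +kernel

theorem lift12_run49 : rangeAll liftOK 128 96256 = true := by decide +kernel

theorem lift12_run50 : rangeAll liftOK 128 96384 = true := by decide +kernel

theorem lift12_run51 : rangeAll liftOK 128 96512 = true := by decide +kernel

theorem lift12_run52 : rangeAll liftOK 128 96640 = true := by decide +kernel

theorem lift12_run53 : rangeAll liftOK 128 96768 = true := by decide +kernel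

theorem lift12_run54 : rangeAll liftOK 128 96896 = true := by decide +kernel

theorem lift12_run55 : rangeAll liftOK 128 97024 = true := by decide +kernel

theorem lift12_run56 : rangeAll liftOK 128 97152 = true := by decide +kernel

theorem lift12_run57 : rangeAll liftOK 128 97280 = true := by decide +kernel

theorem lift12_run58 : rangeAll liftOK 128 97408 = true := by decide +kernel

theorem lift12_run59 : rangeAll liftOK 128 97536 = true := by decide +kernel

theorem lift12_run60 : rangeAll liftOK 128 97664 = true := by decide +kernel

theorem lift12_run61 : rangeAll liftOK 128 97792 = true := by decide +kernel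

theorem lift12_run62 : rangeAll liftOK 128 97920 = true := by decide +kernel

theorem lift12_run63 : rangeAll liftOK 128 98048 = true := by decide +kernel

theorem lift12_run64 : rangeAll liftOK 128 98176 = true := by decide +kernel

theorem lift_part12 (P : Below liftOK 90112) : Below liftOK 98304 :=
  ((((((((((((((((((((((((((((((((((((((((((((((((((((((((((((((((P.step (b := 90240) lift12_run1 rfl).step (b := 90368) lift12_run2 rfl).step (b := 90496) lift12_run3 rfl).step (b := 90624) lift12_run4 rfl).step (b := 90752) lift12_run5 rfl).step (b := 90880) lift12_run6 rfl).step (b := 91008) lift12_run7 rfl).step (b := 91136) lift12_run8 rfl).step (b := 91264) lift12_run9 rfl).step (b := 91392) lift12_run10 rfl).step (b := 91520) lift12_run11 rfl).step (b := 91648) lift12_run12 rfl).step (b := 91776) lift12_run13 rfl).step (b := 91904) lift12_run14 rfl).step (b := 92032) lift12_run15 rfl).step (b := 92160) lift12_run16 rfl).step (b := 92288) lift12_run17 rfl).step (b := 92416) lift12_run18 rfl).step (b := 92544) lift12_run19 rfl).step (b := 92672) lift12_run20 rfl).step (b := 92800) lift12_run21 rfl).step (b := 92928) lift12_run22 rfl).step (b := 93056) lift12_run23 rfl).step (b := 93184) lift12_run24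 rfl).step (b := 93312) lift12_run25 rfl).step (b := 93440) lift12_run26 rfl).step (b := 93568) lift12_run27 rfl).step (b := 93696) lift12_run28 rfl).step (b := 93824) lift12_run29 rfl).step (b := 93952) lift12_run30 rfl).step (b := 94080) lift12_run31 rfl).step (b := 94208) lift12_run32 rfl).step (b := 94336) lift12_run33 rfl).step (b := 94464) lift12_run34 rfl).step (b := 94592) lift12_run35 rfl).step (b := 94720) lift12_run36 rfl).step (b := 94848) lift12_run37 rfl).step (b := 94976) lift12_run38 rfl).step (b := 95104) lift12_run39 rfl).step (b := 95232) lift12_run40 rfl).step (b := 95360) lift12_run41 rfl).step (b := 95488) lift12_run42 rfl).step (b := 95616) lift12_run43 rfl).step (b := 95744) lift12_run44 rfl).step (b := 95872) lift12_run45 rfl).step (b := 96000) lift12_run46 rfl).step (b := 96128) lift12_run47 rfl).step (b := 96256) lift12_run48 rfl).step (b := 96384) lift12_run49 rfl).step (b := 96512) lift12_run50 rfl).step (b := 96640) lift12_run51 rfl).step (b := 96768) lift12_run52 rfl).step (b := 96896) lift12_run53 rfl).step (b := 97024) lift12_run54 rfl).step (b := 97152) lift12_run55 rfl).step (b := 97280) lift12_run56 rfl).step (b := 97408) lift12_run57 rfl).step (b := 97536) lift12_run58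 rfl).step (b := 97664) lift12_run59 rfl).step (b := 97792) lift12_run60 rfl).step (b := 97920) lift12_run61 rfl).step (b := 98048) lift12_run62 rfl).step (b := 98176) lift12_run63 rfl).step (b := 98304) lift12_run64 rfl)

end Cfsg.Agent.Lib.Compute.Sporadic.ON
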