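import Cfsg.Agent.Lib.Compute.Sporadic.ON.Charge

/-! Generated checks: relator charges. -/

set_option autoImplicit false
set_option Elab.async false

namespace Cfsg.Agent.Lib.Compute.Sporadic.ON

open Cfsg.Agent.Lib.CosetTable

theorem lift13_run1 : rangeAll liftOK 128 98304 = true := by decide +kernel

theorem lift13_run2 : rangeAll liftOK 128 98432 = true := by decide +kernel

theorem lift13_run3 : rangeAll liftOK 128 98560 = true := by decide +kernel

theorem lift13_run4 : rangeAll liftOK 128 98688 = true := by decide +kernel

theorem lift13_run5 : rangeAll liftOK 128 98816 = true := by decide +kernel

theorem lift13_run6 : rangeAll liftOK 128 98944 = true := by decide +kernel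

theorem lift13_run7 : rangeAll liftOK 128 99072 = true := by decide +kernel

theorem lift13_run8 : rangeAll liftOK 128 99200 = true := by decide +kernel

theorem lift13_run9 : rangeAll liftOK 128 99328 = true := by decide +kernel

theorem lift13_run10 : rangeAll liftOK 128 99456 = true := by decide +kernel

theorem lift13_run11 : rangeAll liftOK 128 99584 = true := by decide +kernel

theorem lift13_run12 : rangeAll liftOK 128 99712 = true := by decide +kernel

theorem lift13_run13 : rangeAll liftOK 128 99840 = true := by decide +kernel

theorem lift13_run14 : rangeAll liftOK 128 99968 = true := by decide +kernel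

theorem lift13_run15 : rangeAll liftOK 128 100096 = true := by decide +kernel

theorem lift13_run16 : rangeAll liftOK 128 100224 = true := by decide +kernel

theorem lift13_run17 : rangeAll liftOK 128 100352 = true := by decide +kernel

theorem lift13_run18 : rangeAll liftOK 128 100480 = true := by decide +kernel

theorem lift13_run19 : rangeAll liftOK 128 100608 = true := by decide +kernel

theorem lift13_run20 : rangeAll liftOK 128 100736 = true := by decide +kernel

theorem lift13_run21 : rangeAll liftOK 128 100864 = true := by decide +kernel

theorem lift13_run22 : rangeAll liftOK 128 100992 = true := by decide +kernel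

theorem lift13_run23 : rangeAll liftOK 128 101120 = true := by decide +kernel

theorem lift13_run24 : rangeAll liftOK 128 101248 = true := by decide +kernel

theorem lift13_run25 : rangeAll liftOK 128 101376 = true := by decide +kernel

theorem lift13_run26 : rangeAll liftOK 128 101504 = true := by decide +kernel

theorem lift13_run27 : rangeAll liftOK 128 101632 = true := by decide +kernel

theorem lift13_run28 : rangeAll liftOK 128 101760 = true := by decide +kernel

theorem lift13_run29 : rangeAll liftOK 128 101888 = true := by decide +kernel

theorem lift13_run30 : rangeAll liftOK 128 102016 = true := by decide +kernel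

theorem lift13_run31 : rangeAll liftOK 128 102144 = true := by decide +kernel

theorem lift13_run32 : rangeAll liftOK 128 102272 = true := by decide +kernel

theorem lift13_run33 : rangeAll liftOK 128 102400 = true := by decide +kernel

theorem lift13_run34 : rangeAll liftOK 128 102528 = true := by decide +kernel

theorem lift13_run35 : rangeAll liftOK 128 102656 = true := by decide +kernel

theorem lift13_run36 : rangeAll liftOK 128 102784 = true := by decide +kernel

theorem lift13_run37 : rangeAll liftOK 128 102912 = true := by decide +kernel

theorem lift13_run38 : rangeAll liftOK 128 103040 = true := by decide +kernel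

theorem lift13_run39 : rangeAll liftOK 128 103168 = true := by decide +kernel

theorem lift13_run40 : rangeAll liftOK 128 103296 = true := by decide +kernel

theorem lift13_run41 : rangeAll liftOK 128 103424 = true := by decide +kernel

theorem lift13_run42 : rangeAll liftOK 128 103552 = true := by decide +kernel

theorem lift13_run43 : rangeAll liftOK 128 103680 = true := by decide +kernel

theorem lift13_run44 : rangeAll liftOK 128 103808 = true := by decide +kernel

theorem lift13_run45 : rangeAll liftOK 128 103936 = true := by decide +kernel

theorem lift13_run46 : rangeAll liftOK 128 104064 = true := by decide +kernel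

theorem lift13_run47 : rangeAll liftOK 128 104192 = true := by decide +kernel

theorem lift13_run48 : rangeAll liftOK 128 104320 = true := by decide +kernel

theorem lift13_run49 : rangeAll liftOK 128 104448 = true := by decide +kernel

theorem lift13_run50 : rangeAll liftOK 128 104576 = true := by decide +kernel

theorem lift13_run51 : rangeAll liftOK 128 104704 = true := by decide +kernel

theorem lift13_run52 : rangeAll liftOK 128 104832 = true := by decide +kernel

theorem lift13_run53 : rangeAll liftOK 128 104960 = true := by decide +kernel

theorem lift13_run54 : rangeAll liftOK 128 105088 = true := by decide +kernel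

theorem lift13_run55 : rangeAll liftOK 128 105216 = true := by decide +kernel

theorem lift13_run56 : rangeAll liftOK 128 105344 = true := by decide +kernel

theorem lift13_run57 : rangeAll liftOK 128 105472 = true := by decide +kernel

theorem lift13_run58 : rangeAll liftOK 128 105600 = true := by decide +kernel

theorem lift13_run59 : rangeAll liftOK 128 105728 = true := by decide +kernel

theorem lift13_run60 : rangeAll liftOK 128 105856 = true := by decide +kernel

theorem lift13_run61 : rangeAll liftOK 128 105984 = true := by decide +kernel

theorem lift13_run62 : rangeAll liftOK 128 106112 = true := by decide +kernel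

theorem lift13_run63 : rangeAll liftOK 128 106240 = true := by decide +kernel

theorem lift13_run64 : rangeAll liftOK 128 106368 = true := by decide +kernel

theorem lift_part13 (P : Below liftOK 98304) : Below liftOK 106496 :=
  ((((((((((((((((((((((((((((((((((((((((((((((((((((((((((((((((P.step (b := 98432) lift13_run1 rfl).step (b := 98560) lift13_run2 rfl).step (b := 98688) lift13_run3 rfl).step (b := 98816) lift13_run4 rfl).step (b := 98944) lift13_run5 rfl).step (b := 99072) lift13_run6 rfl).step (b := 99200) lift13_run7 rfl).step (b := 99328) lift13_run8 rfl).step (b := 99456) lift13_run9 rfl).step (b := 99584) lift13_run10 rfl).step (b := 99712) lift13_run11 rfl).step (b := 99840) lift13_run12 rfl).step (b := 99968) lift13_run13 rfl).step (b := 100096) lift13_run14 rfl).step (b := 100224) lift13_run15 rfl).step (b := 100352) lift13_run16 rfl).step (b := 100480) lift13_run17 rfl).step (b := 100608) lift13_run18 rfl).step (b := 100736) lift13_run19 rfl).step (b := 100864) lift13_run20 rfl).step (b := 100992) lift13_run21 rfl).step (b := 101120) lift13_run22 rfl).step (b := 101248) lift13_run23 rfl).step (b := 101376) lift13_run24 rfl).step (b := 101504) lift13_run25 rfl).step (b := 101632) lift13_run26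 rfl).step (b := 101760) lift13_run27 rfl).step (b := 101888) lift13_run28 rfl).step (b := 102016) lift13_run29 rfl).step (b := 102144) lift13_run30 rfl).step (b := 102272) lift13_run31 rfl).step (b := 102400) lift13_run32 rfl).step (b := 102528) lift13_run33 rfl).step (b := 102656) lift13_run34 rfl).step (b := 102784) lift13_run35 rfl).step (b := 102912) lift13_run36 rfl).step (b := 103040) lift13_run37 rfl).step (b := 103168) lift13_run38 rfl).step (b := 103296) lift13_run39 rfl).step (b := 103424) lift13_run40 rfl).step (b := 103552) lift13_run41 rfl).step (b := 103680) lift13_run42 rfl).step (b := 103808) lift13_run43 rfl).step (b := 103936) lift13_run44 rfl).step (b := 104064) lift13_run45 rfl).step (b := 104192) lift13_run46 rfl).step (b := 104320) lift13_run47 rfl).step (b := 104448) lift13_run48 rfl).step (b := 104576) lift13_run49 rfl).step (b := 104704) lift13_run50 rfl).step (b := 104832) lift13_run51 rfl).step (b := 104960) lift13_run52 rfl).step (b := 105088) lift13_run53 rfl).step (b := 105216) lift13_run54 rfl).step (b := 105344) lift13_run55 rfl).step (b := 105472) lift13_run56 rfl).step (b := 105600) lift13_run57 rfl).step (b := 105728) lift13_run58 rfl).step (b := 105856) lift13_run59 rfl).step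 (b := 105984) lift13_run60 rfl).step (b := 106112) lift13_run61 rfl).step (b := 106240) lift13_run62 rfl).step (b := 106368) lift13_run63 rfl).step (b := 106496) lift13_run64 rfl)

end Cfsg.Agent.Lib.Compute.Sporadic.ON
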