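import Cfsg.Agent.Lib.Compute.Sporadic.ON.Charge

/-! Generated checks: relator charges. -/

set_option autoImplicit false
set_option Elab.async false

namespace Cfsg.Agent.Lib.Compute.Sporadic.ON

open Cfsg.Agent.Lib.CosetTable

theorem lift14_run1 : rangeAll liftOK 128 106496 = true := by decide +kernel

theorem lift14_run2 : rangeAll liftOK 128 106624 = true := by decide +kernel

theorem lift14_run3 : rangeAll liftOK 128 106752 = true := by decide +kernel

theorem lift14_run4 : rangeAll liftOK 128 106880 = true := by decide +kernel

theorem lift14_run5 : rangeAll liftOK 128 107008 = true := by decide +kernel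

theorem lift14_run6 : rangeAll liftOK 128 107136 = true := by decide +kernel

theorem lift14_run7 : rangeAll liftOK 128 107264 = true := by decide +kernel

theorem lift14_run8 : rangeAll liftOK 128 107392 = true := by decide +kernel

theorem lift14_run9 : rangeAll liftOK 128 107520 = true := by decide +kernel

theorem lift14_run10 : rangeAll liftOK 128 107648 = true := by decide +kernel

theorem lift14_run11 : rangeAll liftOK 128 107776 = true := by decide +kernel

theorem lift14_run12 : rangeAll liftOK 128 107904 = true := by decide +kernel

theorem lift14_run13 : rangeAll liftOK 128 108032 = true := by decide +kernel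

theorem lift14_run14 : rangeAll liftOK 128 108160 = true := by decide +kernel

theorem lift14_run15 : rangeAll liftOK 128 108288 = true := by decide +kernel

theorem lift14_run16 : rangeAll liftOK 128 108416 = true := by decide +kernel

theorem lift14_run17 : rangeAll liftOK 128 108544 = true := by decide +kernel

theorem lift14_run18 : rangeAll liftOK 128 108672 = true := by decide +kernel

theorem lift14_run19 : rangeAll liftOK 128 108800 = true := by decide +kernel

theorem lift14_run20 : rangeAll liftOK 128 108928 = true := by decide +kernel

theorem lift14_run21 : rangeAll liftOK 128 109056 = true := by decide +kernel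

theorem lift14_run22 : rangeAll liftOK 128 109184 = true := by decide +kernel

theorem lift14_run23 : rangeAll liftOK 128 109312 = true := by decide +kernel

theorem lift14_run24 : rangeAll liftOK 128 109440 = true := by decide +kernel

theorem lift14_run25 : rangeAll liftOK 128 109568 = true := by decide +kernel

theorem lift14_run26 : rangeAll liftOK 128 109696 = true := by decide +kernel

theorem lift14_run27 : rangeAll liftOK 128 109824 = true := by decide +kernel

theorem lift14_run28 : rangeAll liftOK 128 109952 = true := by decide +kernel

theorem lift14_run29 : rangeAll liftOK 128 110080 = true := by decide +kernel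

theorem lift14_run30 : rangeAll liftOK 128 110208 = true := by decide +kernel

theorem lift14_run31 : rangeAll liftOK 128 110336 = true := by decide +kernel

theorem lift14_run32 : rangeAll liftOK 128 110464 = true := by decide +kernel

theorem lift14_run33 : rangeAll liftOK 128 110592 = true := by decide +kernel

theorem lift14_run34 : rangeAll liftOK 128 110720 = true := by decide +kernel

theorem lift14_run35 : rangeAll liftOK 128 110848 = true := by decide +kernel

theorem lift14_run36 : rangeAll liftOK 128 110976 = true := by decide +kernel

theorem lift14_run37 : rangeAll liftOK 128 111104 = true := by decide +kernel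

theorem lift14_run38 : rangeAll liftOK 128 111232 = true := by decide +kernel

theorem lift14_run39 : rangeAll liftOK 128 111360 = true := by decide +kernel

theorem lift14_run40 : rangeAll liftOK 128 111488 = true := by decide +kernel

theorem lift14_run41 : rangeAll liftOK 128 111616 = true := by decide +kernel

theorem lift14_run42 : rangeAll liftOK 128 111744 = true := by decide +kernel

theorem lift14_run43 : rangeAll liftOK 128 111872 = true := by decide +kernel

theorem lift14_run44 : rangeAll liftOK 128 112000 = true := by decide +kernel

theorem lift14_run45 : rangeAll liftOK 128 112128 = true := by decide +kernel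

theorem lift14_run46 : rangeAll liftOK 128 112256 = true := by decide +kernel

theorem lift14_run47 : rangeAll liftOK 128 112384 = true := by decide +kernel

theorem lift14_run48 : rangeAll liftOK 128 112512 = true := by decide +kernel

theorem lift14_run49 : rangeAll liftOK 128 112640 = true := by decide +kernel

theorem lift14_run50 : rangeAll liftOK 128 112768 = true := by decide +kernel

theorem lift14_run51 : rangeAll liftOK 128 112896 = true := by decide +kernel

theorem lift14_run52 : rangeAll liftOK 128 113024 = true := by decide +kernel

theorem lift14_run53 : rangeAll liftOK 128 113152 = true := by decide +kernel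

theorem lift14_run54 : rangeAll liftOK 128 113280 = true := by decide +kernel

theorem lift14_run55 : rangeAll liftOK 128 113408 = true := by decide +kernel

theorem lift14_run56 : rangeAll liftOK 128 113536 = true := by decide +kernel

theorem lift14_run57 : rangeAll liftOK 128 113664 = true := by decide +kernel

theorem lift14_run58 : rangeAll liftOK 128 113792 = true := by decide +kernel

theorem lift14_run59 : rangeAll liftOK 128 113920 = true := by decide +kernel

theorem lift14_run60 : rangeAll liftOK 128 114048 = true := by decide +kernel

theorem lift14_run61 : rangeAll liftOK 128 114176 = true := by decide +kernel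

theorem lift14_run62 : rangeAll liftOK 128 114304 = true := by decide +kernel

theorem lift14_run63 : rangeAll liftOK 128 114432 = true := by decide +kernel

theorem lift14_run64 : rangeAll liftOK 128 114560 = true := by decide +kernel

theorem lift_part14 (P : Below liftOK 106496) : Below liftOK 114688 :=
  ((((((((((((((((((((((((((((((((((((((((((((((((((((((((((((((((P.step (b := 106624) lift14_run1 rfl).step (b := 106752) lift14_run2 rfl).step (b := 106880) lift14_run3 rfl).step (b := 107008) lift14_run4 rfl).step (b := 107136) lift14_run5 rfl).step (b := 107264) lift14_run6 rfl).step (b := 107392) lift14_run7 rfl).step (b := 107520) lift14_run8 rfl).step (b := 107648) lift14_run9 rfl).step (b := 107776) lift14_run10 rfl).step (b := 107904) lift14_run11 rfl).step (b := 108032) lift14_run12 rfl).step (b := 108160) lift14_run13 rfl).step (b := 108288) lift14_run14 rfl).step (b := 108416) lift14_run15 rfl).step (b := 108544) lift14_run16 rfl).step (b := 108672) lift14_run17 rfl).step (b := 108800) lift14_run18 rfl).step (b := 108928) lift14_run19 rfl).step (b := 109056) lift14_run20 rfl).step (b := 109184) lift14_run21 rfl).step (b := 109312) lift14_run22 rfl).step (b := 109440) lift14_run23 rfl).step (b := 109568)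 lift14_run24 rfl).step (b := 109696) lift14_run25 rfl).step (b := 109824) lift14_run26 rfl).step (b := 109952) lift14_run27 rfl).step (b := 110080) lift14_run28 rfl).step (b := 110208) lift14_run29 rfl).step (b := 110336) lift14_run30 rfl).step (b := 110464) lift14_run31 rfl).step (b := 110592) lift14_run32 rfl).step (b := 110720) lift14_run33 rfl).step (b := 110848) lift14_run34 rfl).step (b := 110976) lift14_run35 rfl).step (b := 111104) lift14_run36 rfl).step (b := 111232) lift14_run37 rfl).step (b := 111360) lift14_run38 rfl).step (b := 111488) lift14_run39 rfl).step (b := 111616) lift14_run40 rfl).step (b := 111744) lift14_run41 rfl).step (b := 111872) lift14_run42 rfl).step (b := 112000) lift14_run43 rfl).step (b := 112128) lift14_run44 rfl).step (b := 112256) lift14_run45 rfl).step (b := 112384) lift14_run46 rfl).step (b := 112512) lift14_run47 rfl).step (b := 112640) lift14_run48 rfl).step (b := 112768) lift14_run49 rfl).step (b := 112896) lift14_run50 rfl).step (b := 113024) lift14_run51 rfl).step (b := 113152) lift14_run52 rfl).step (b := 113280) lift14_run53 rfl).step (b := 113408) lift14_run54 rfl).step (b := 113536) lift14_run55 rfl).step (b := 113664) lift14_run56 rfl).step (b := 113792) lift14_run57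 rfl).step (b := 113920) lift14_run58 rfl).step (b := 114048) lift14_run59 rfl).step (b := 114176) lift14_run60 rfl).step (b := 114304) lift14_run61 rfl).step (b := 114432) lift14_run62 rfl).step (b := 114560) lift14_run63 rfl).step (b := 114688) lift14_run64 rfl)

end Cfsg.Agent.Lib.Compute.Sporadic.ON
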