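import Cfsg.Agent.Lib.Compute.Sporadic.ON.Charge

/-! Generated checks: relator charges. -/

set_option autoImplicit false
set_option Elab.async false

namespace Cfsg.Agent.Lib.Compute.Sporadic.ON

open Cfsg.Agent.Lib.CosetTable

theorem lift15_run1 : rangeAll liftOK 128 114688 = true := by decide +kernel

theorem lift15_run2 : rangeAll liftOK 128 114816 = true := by decide +kernel

theorem lift15_run3 : rangeAll liftOK 128 114944 = true := by decide +kernel

theorem lift15_run4 : rangeAll liftOK 128 115072 = true := by decide +kernel

theorem lift15_run5 : rangeAll liftOK 128 115200 = true := by decide +kernel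

theorem lift15_run6 : rangeAll liftOK 128 115328 = true := by decide +kernel

theorem lift15_run7 : rangeAll liftOK 128 115456 = true := by decide +kernel

theorem lift15_run8 : rangeAll liftOK 128 115584 = true := by decide +kernel

theorem lift15_run9 : rangeAll liftOK 128 115712 = true := by decide +kernel

theorem lift15_run10 : rangeAll liftOK 128 115840 = true := by decide +kernel

theorem lift15_run11 : rangeAll liftOK 128 115968 = true := by decide +kernel

theorem lift15_run12 : rangeAll liftOK 128 116096 = true := by decide +kernel

theorem lift15_run13 : rangeAll liftOK 128 116224 = true := by decide +kernel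

theorem lift15_run14 : rangeAll liftOK 128 116352 = true := by decide +kernel

theorem lift15_run15 : rangeAll liftOK 128 116480 = true := by decide +kernel

theorem lift15_run16 : rangeAll liftOK 128 116608 = true := by decide +kernel

theorem lift15_run17 : rangeAll liftOK 128 116736 = true := by decide +kernel

theorem lift15_run18 : rangeAll liftOK 128 116864 = true := by decide +kernel

theorem lift15_run19 : rangeAll liftOK 128 116992 = true := by decide +kernel

theorem lift15_run20 : rangeAll liftOK 128 117120 = true := by decide +kernel

theorem lift15_run21 : rangeAll liftOK 128 117248 = true := by decide +kernel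

theorem lift15_run22 : rangeAll liftOK 128 117376 = true := by decide +kernel

theorem lift15_run23 : rangeAll liftOK 128 117504 = true := by decide +kernel

theorem lift15_run24 : rangeAll liftOK 128 117632 = true := by decide +kernel

theorem lift15_run25 : rangeAll liftOK 128 117760 = true := by decide +kernel

theorem lift15_run26 : rangeAll liftOK 128 117888 = true := by decide +kernel

theorem lift15_run27 : rangeAll liftOK 128 118016 = true := by decide +kernel

theorem lift15_run28 : rangeAll liftOK 128 118144 = true := by decide +kernel

theorem lift15_run29 : rangeAll liftOK 128 118272 = true := by decide +kernel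

theorem lift15_run30 : rangeAll liftOK 128 118400 = true := by decide +kernel

theorem lift15_run31 : rangeAll liftOK 128 118528 = true := by decide +kernel

theorem lift15_run32 : rangeAll liftOK 128 118656 = true := by decide +kernel

theorem lift15_run33 : rangeAll liftOK 128 118784 = true := by decide +kernel

theorem lift15_run34 : rangeAll liftOK 128 118912 = true := by decide +kernel

theorem lift15_run35 : rangeAll liftOK 128 119040 = true := by decide +kernel

theorem lift15_run36 : rangeAll liftOK 128 119168 = true := by decide +kernel

theorem lift15_run37 : rangeAll liftOK 128 119296 = true := by decide +kernel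

theorem lift15_run38 : rangeAll liftOK 128 119424 = true := by decide +kernel

theorem lift15_run39 : rangeAll liftOK 128 119552 = true := by decide +kernel

theorem lift15_run40 : rangeAll liftOK 128 119680 = true := by decide +kernel

theorem lift15_run41 : rangeAll liftOK 128 119808 = true := by decide +kernel

theorem lift15_run42 : rangeAll liftOK 128 119936 = true := by decide +kernel

theorem lift15_run43 : rangeAll liftOK 128 120064 = true := by decide +kernel

theorem lift15_run44 : rangeAll liftOK 128 120192 = true := by decide +kernel

theorem lift15_run45 : rangeAll liftOK 128 120320 = true := by decide +kernel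

theorem lift15_run46 : rangeAll liftOK 128 120448 = true := by decide +kernel

theorem lift15_run47 : rangeAll liftOK 128 120576 = true := by decide +kernel

theorem lift15_run48 : rangeAll liftOK 128 120704 = true := by decide +kernel

theorem lift15_run49 : rangeAll liftOK 128 120832 = true := by decide +kernel

theorem lift15_run50 : rangeAll liftOK 128 120960 = true := by decide +kernel

theorem lift15_run51 : rangeAll liftOK 128 121088 = true := by decide +kernel

theorem lift15_run52 : rangeAll liftOK 128 121216 = true := by decide +kernel

theorem lift15_run53 : rangeAll liftOK 128 121344 = true := by decide +kernel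

theorem lift15_run54 : rangeAll liftOK 128 121472 = true := by decide +kernel

theorem lift15_run55 : rangeAll liftOK 128 121600 = true := by decide +kernel

theorem lift15_run56 : rangeAll liftOK 128 121728 = true := by decide +kernel

theorem lift15_run57 : rangeAll liftOK 128 121856 = true := by decide +kernel

theorem lift15_run58 : rangeAll liftOK 128 121984 = true := by decide +kernel

theorem lift15_run59 : rangeAll liftOK 128 122112 = true := by decide +kernel

theorem lift15_run60 : rangeAll liftOK 128 122240 = true := by decide +kernel

theorem lift15_run61 : rangeAll liftOK 128 122368 = true := by decide +kernel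

theorem lift15_run62 : rangeAll liftOK 128 122496 = true := by decide +kernel

theorem lift15_run63 : rangeAll liftOK 128 122624 = true := by decide +kernel

theorem lift15_run64 : rangeAll liftOK 8 122752 = true := by decide +kernel

theorem lift_part15 (P : Below liftOK 114688) : Below liftOK 122760 :=
  ((((((((((((((((((((((((((((((((((((((((((((((((((((((((((((((((P.step (b := 114816) lift15_run1 rfl).step (b := 114944) lift15_run2 rfl).step (b := 115072) lift15_run3 rfl).step (b := 115200) lift15_run4 rfl).step (b := 115328) lift15_run5 rfl).step (b := 115456) lift15_run6 rfl).step (b := 115584) lift15_run7 rfl).step (b := 115712) lift15_run8 rfl).step (b := 115840) lift15_run9 rfl).step (b := 115968) lift15_run10 rfl).step (b := 116096) lift15_run11 rfl).step (b := 116224) lift15_run12 rfl).step (b := 116352) lift15_run13 rfl).step (b := 116480) lift15_run14 rfl).step (b := 116608) lift15_run15 rfl).step (b := 116736) lift15_run16 rfl).step (b := 116864) lift15_run17 rfl).step (b := 116992) lift15_run18 rfl).step (b := 117120) lift15_run19 rfl).step (b := 117248) lift15_run20 rfl).step (b := 117376) lift15_run21 rfl).step (b := 117504) lift15_run22 rfl).step (b := 117632) lift15_run23 rfl).step (b := 117760)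 lift15_run24 rfl).step (b := 117888) lift15_run25 rfl).step (b := 118016) lift15_run26 rfl).step (b := 118144) lift15_run27 rfl).step (b := 118272) lift15_run28 rfl).step (b := 118400) lift15_run29 rfl).step (b := 118528) lift15_run30 rfl).step (b := 118656) lift15_run31 rfl).step (b := 118784) lift15_run32 rfl).step (b := 118912) lift15_run33 rfl).step (b := 119040) lift15_run34 rfl).step (b := 119168) lift15_run35 rfl).step (b := 119296) lift15_run36 rfl).step (b := 119424) lift15_run37 rfl).step (b := 119552) lift15_run38 rfl).step (b := 119680) lift15_run39 rfl).step (b := 119808) lift15_run40 rfl).step (b := 119936) lift15_run41 rfl).step (b := 120064) lift15_run42 rfl).step (b := 120192) lift15_run43 rfl).step (b := 120320) lift15_run44 rfl).step (b := 120448) lift15_run45 rfl).step (b := 120576) lift15_run46 rfl).step (b := 120704) lift15_run47 rfl).step (b := 120832) lift15_run48 rfl).step (b := 120960) lift15_run49 rfl).step (b := 121088) lift15_run50 rfl).step (b := 121216) lift15_run51 rfl).step (b := 121344) lift15_run52 rfl).step (b := 121472) lift15_run53 rfl).step (b := 121600) lift15_run54 rfl).step (b := 121728) lift15_run55 rfl).step (b := 121856) lift15_run56 rfl).step (b := 121984) lift15_run57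 rfl).step (b := 122112) lift15_run58 rfl).step (b := 122240) lift15_run59 rfl).step (b := 122368) lift15_run60 rfl).step (b := 122496) lift15_run61 rfl).step (b := 122624) lift15_run62 rfl).step (b := 122752) lift15_run63 rfl).step (b := 122760) lift15_run64 rfl)

end Cfsg.Agent.Lib.Compute.Sporadic.ON
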