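import Cfsg.Agent.Lib.Compute.Sporadic.ON.Charge

/-! Generated checks: relator charges. -/

set_option autoImplicit false
set_option Elab.async false

namespace Cfsg.Agent.Lib.Compute.Sporadic.ON

open Cfsg.Agent.Lib.CosetTable

theorem lift2_run1 : rangeAll liftOK 128 8192 = true := by decide +kernel

theorem lift2_run2 : rangeAll liftOK 128 8320 = true := by decide +kernel

theorem lift2_run3 : rangeAll liftOK 128 8448 = true := by decide +kernel

theorem lift2_run4 : rangeAll liftOK 128 8576 = true := by decide +kernel

theorem lift2_run5 : rangeAll liftOK 128 8704 = true := by decide +kernel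

theorem lift2_run6 : rangeAll liftOK 128 8832 = true := by decide +kernel

theorem lift2_run7 : rangeAll liftOK 128 8960 = true := by decide +kernel

theorem lift2_run8 : rangeAll liftOK 128 9088 = true := by decide +kernel

theorem lift2_run9 : rangeAll liftOK 128 9216 = true := by decide +kernel

theorem lift2_run10 : rangeAll liftOK 128 9344 = true := by decide +kernel

theorem lift2_run11 : rangeAll liftOK 128 9472 = true := by decide +kernel

theorem lift2_run12 : rangeAll liftOK 128 9600 = true := by decide +kernel

theorem lift2_run13 : rangeAll liftOK 128 9728 = true := by decide +kernel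

theorem lift2_run14 : rangeAll liftOK 128 9856 = true := by decide +kernel

theorem lift2_run15 : rangeAll liftOK 128 9984 = true := by decide +kernel

theorem lift2_run16 : rangeAll liftOK 128 10112 = true := by decide +kernel

theorem lift2_run17 : rangeAll liftOK 128 10240 = true := by decide +kernel

theorem lift2_run18 : rangeAll liftOK 128 10368 = true := by decide +kernel

theorem lift2_run19 : rangeAll liftOK 128 10496 = true := by decide +kernel

theorem lift2_run20 : rangeAll liftOK 128 10624 = true := by decide +kernel

theorem lift2_run21 : rangeAll liftOK 128 10752 = true := by decide +kernel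

theorem lift2_run22 : rangeAll liftOK 128 10880 = true := by decide +kernel

theorem lift2_run23 : rangeAll liftOK 128 11008 = true := by decide +kernel

theorem lift2_run24 : rangeAll liftOK 128 11136 = true := by decide +kernel

theorem lift2_run25 : rangeAll liftOK 128 11264 = true := by decide +kernel

theorem lift2_run26 : rangeAll liftOK 128 11392 = true := by decide +kernel

theorem lift2_run27 : rangeAll liftOK 128 11520 = true := by decide +kernel

theorem lift2_run28 : rangeAll liftOK 128 11648 = true := by decide +kernel

theorem lift2_run29 : rangeAll liftOK 128 11776 = true := by decide +kernel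

theorem lift2_run30 : rangeAll liftOK 128 11904 = true := by decide +kernel

theorem lift2_run31 : rangeAll liftOK 128 12032 = true := by decide +kernel

theorem lift2_run32 : rangeAll liftOK 128 12160 = true := by decide +kernel

theorem lift2_run33 : rangeAll liftOK 128 12288 = true := by decide +kernel

theorem lift2_run34 : rangeAll liftOK 128 12416 = true := by decide +kernel

theorem lift2_run35 : rangeAll liftOK 128 12544 = true := by decide +kernel

theorem lift2_run36 : rangeAll liftOK 128 12672 = true := by decide +kernel

theorem lift2_run37 : rangeAll liftOK 128 12800 = true := by decide +kernel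

theorem lift2_run38 : rangeAll liftOK 128 12928 = true := by decide +kernel

theorem lift2_run39 : rangeAll liftOK 128 13056 = true := by decide +kernel

theorem lift2_run40 : rangeAll liftOK 128 13184 = true := by decide +kernel

theorem lift2_run41 : rangeAll liftOK 128 13312 = true := by decide +kernel

theorem lift2_run42 : rangeAll liftOK 128 13440 = true := by decide +kernel

theorem lift2_run43 : rangeAll liftOK 128 13568 = true := by decide +kernel

theorem lift2_run44 : rangeAll liftOK 128 13696 = true := by decide +kernel

theorem lift2_run45 : rangeAll liftOK 128 13824 = true := by decide +kernel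

theorem lift2_run46 : rangeAll liftOK 128 13952 = true := by decide +kernel

theorem lift2_run47 : rangeAll liftOK 128 14080 = true := by decide +kernel

theorem lift2_run48 : rangeAll liftOK 128 14208 = true := by decide +kernel

theorem lift2_run49 : rangeAll liftOK 128 14336 = true := by decide +kernel

theorem lift2_run50 : rangeAll liftOK 128 14464 = true := by decide +kernel

theorem lift2_run51 : rangeAll liftOK 128 14592 = true := by decide +kernel

theorem lift2_run52 : rangeAll liftOK 128 14720 = true := by decide +kernel

theorem lift2_run53 : rangeAll liftOK 128 14848 = true := by decide +kernel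

theorem lift2_run54 : rangeAll liftOK 128 14976 = true := by decide +kernel

theorem lift2_run55 : rangeAll liftOK 128 15104 = true := by decide +kernel

theorem lift2_run56 : rangeAll liftOK 128 15232 = true := by decide +kernel

theorem lift2_run57 : rangeAll liftOK 128 15360 = true := by decide +kernel

theorem lift2_run58 : rangeAll liftOK 128 15488 = true := by decide +kernel

theorem lift2_run59 : rangeAll liftOK 128 15616 = true := by decide +kernel

theorem lift2_run60 : rangeAll liftOK 128 15744 = true := by decide +kernel

theorem lift2_run61 : rangeAll liftOK 128 15872 = true := by decide +kernel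

theorem lift2_run62 : rangeAll liftOK 128 16000 = true := by decide +kernel

theorem lift2_run63 : rangeAll liftOK 128 16128 = true := by decide +kernel

theorem lift2_run64 : rangeAll liftOK 128 16256 = true := by decide +kernel

theorem lift_part2 (P : Below liftOK 8192) : Below liftOK 16384 :=
  ((((((((((((((((((((((((((((((((((((((((((((((((((((((((((((((((P.step (b := 8320) lift2_run1 rfl).step (b := 8448) lift2_run2 rfl).step (b := 8576) lift2_run3 rfl).step (b := 8704) lift2_run4 rfl).step (b := 8832) lift2_run5 rfl).step (b := 8960) lift2_run6 rfl).step (b := 9088) lift2_run7 rfl).step (b := 9216) lift2_run8 rfl).step (b := 9344) lift2_run9 rfl).step (b := 9472) lift2_run10 rfl).step (b := 9600) lift2_run11 rfl).step (b := 9728) lift2_run12 rfl).step (b := 9856) lift2_run13 rfl).step (b := 9984) lift2_run14 rfl).step (b := 10112) lift2_run15 rfl).step (b := 10240) lift2_run16 rfl).step (b := 10368) lift2_run17 rfl).step (b := 10496) lift2_run18 rfl).step (b := 10624) lift2_run19 rfl).step (b := 10752) lift2_run20 rfl).step (b := 10880) lift2_run21 rfl).step (b := 11008) lift2_run22 rfl).step (b := 11136) lift2_run23 rfl).step (b := 11264) lift2_run24 rfl).step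 (b := 11392) lift2_run25 rfl).step (b := 11520) lift2_run26 rfl).step (b := 11648) lift2_run27 rfl).step (b := 11776) lift2_run28 rfl).step (b := 11904) lift2_run29 rfl).step (b := 12032) lift2_run30 rfl).step (b := 12160) lift2_run31 rfl).step (b := 12288) lift2_run32 rfl).step (b := 12416) lift2_run33 rfl).step (b := 12544) lift2_run34 rfl).step (b := 12672) lift2_run35 rfl).step (b := 12800) lift2_run36 rfl).step (b := 12928) lift2_run37 rfl).step (b := 13056) lift2_run38 rfl).step (b := 13184) lift2_run39 rfl).step (b := 13312) lift2_run40 rfl).step (b := 13440) lift2_run41 rfl).step (b := 13568) lift2_run42 rfl).step (b := 13696) lift2_run43 rfl).step (b := 13824) lift2_run44 rfl).step (b := 13952) lift2_run45 rfl).step (b := 14080) lift2_run46 rfl).step (b := 14208) lift2_run47 rfl).step (b := 14336) lift2_run48 rfl).step (b := 14464) lift2_run49 rfl).step (b := 14592) lift2_run50 rfl).step (b := 14720) lift2_run51 rfl).step (b := 14848) lift2_run52 rfl).step (b := 14976) lift2_run53 rfl).step (b := 15104) lift2_run54 rfl).step (b := 15232) lift2_run55 rfl).step (b := 15360) lift2_run56 rfl).step (b := 15488) lift2_run57 rfl).step (b := 15616) lift2_run58 rfl).step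 (b := 15744) lift2_run59 rfl).step (b := 15872) lift2_run60 rfl).step (b := 16000) lift2_run61 rfl).step (b := 16128) lift2_run62 rfl).step (b := 16256) lift2_run63 rfl).step (b := 16384) lift2_run64 rfl)

end Cfsg.Agent.Lib.Compute.Sporadic.ON
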