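import Cfsg.Agent.Lib.Compute.Sporadic.ON.Charge

/-! Generated checks: relator charges. -/

set_option autoImplicit false
set_option Elab.async false

namespace Cfsg.Agent.Lib.Compute.Sporadic.ON

open Cfsg.Agent.Lib.CosetTable

theorem lift3_run1 : rangeAll liftOK 128 16384 = true := by decide +kernel

theorem lift3_run2 : rangeAll liftOK 128 16512 = true := by decide +kernel

theorem lift3_run3 : rangeAll liftOK 128 16640 = true := by decide +kernel

theorem lift3_run4 : rangeAll liftOK 128 16768 = true := by decide +kernel

theorem lift3_run5 : rangeAll liftOK 128 16896 = true := by decide +kernel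

theorem lift3_run6 : rangeAll liftOK 128 17024 = true := by decide +kernel

theorem lift3_run7 : rangeAll liftOK 128 17152 = true := by decide +kernel

theorem lift3_run8 : rangeAll liftOK 128 17280 = true := by decide +kernel

theorem lift3_run9 : rangeAll liftOK 128 17408 = true := by decide +kernel

theorem lift3_run10 : rangeAll liftOK 128 17536 = true := by decide +kernel

theorem lift3_run11 : rangeAll liftOK 128 17664 = true := by decide +kernel

theorem lift3_run12 : rangeAll liftOK 128 17792 = true := by decide +kernel

theorem lift3_run13 : rangeAll liftOK 128 17920 = true := by decide +kernel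

theorem lift3_run14 : rangeAll liftOK 128 18048 = true := by decide +kernel

theorem lift3_run15 : rangeAll liftOK 128 18176 = true := by decide +kernel

theorem lift3_run16 : rangeAll liftOK 128 18304 = true := by decide +kernel

theorem lift3_run17 : rangeAll liftOK 128 18432 = true := by decide +kernel

theorem lift3_run18 : rangeAll liftOK 128 18560 = true := by decide +kernel

theorem lift3_run19 : rangeAll liftOK 128 18688 = true := by decide +kernel

theorem lift3_run20 : rangeAll liftOK 128 18816 = true := by decide +kernel

theorem lift3_run21 : rangeAll liftOK 128 18944 = true := by decide +kernel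

theorem lift3_run22 : rangeAll liftOK 128 19072 = true := by decide +kernel

theorem lift3_run23 : rangeAll liftOK 128 19200 = true := by decide +kernel

theorem lift3_run24 : rangeAll liftOK 128 19328 = true := by decide +kernel

theorem lift3_run25 : rangeAll liftOK 128 19456 = true := by decide +kernel

theorem lift3_run26 : rangeAll liftOK 128 19584 = true := by decide +kernel

theorem lift3_run27 : rangeAll liftOK 128 19712 = true := by decide +kernel

theorem lift3_run28 : rangeAll liftOK 128 19840 = true := by decide +kernel

theorem lift3_run29 : rangeAll liftOK 128 19968 = true := by decide +kernel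

theorem lift3_run30 : rangeAll liftOK 128 20096 = true := by decide +kernel

theorem lift3_run31 : rangeAll liftOK 128 20224 = true := by decide +kernel

theorem lift3_run32 : rangeAll liftOK 128 20352 = true := by decide +kernel

theorem lift3_run33 : rangeAll liftOK 128 20480 = true := by decide +kernel

theorem lift3_run34 : rangeAll liftOK 128 20608 = true := by decide +kernel

theorem lift3_run35 : rangeAll liftOK 128 20736 = true := by decide +kernel

theorem lift3_run36 : rangeAll liftOK 128 20864 = true := by decide +kernel

theorem lift3_run37 : rangeAll liftOK 128 20992 = true := by decide +kernel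

theorem lift3_run38 : rangeAll liftOK 128 21120 = true := by decide +kernel

theorem lift3_run39 : rangeAll liftOK 128 21248 = true := by decide +kernel

theorem lift3_run40 : rangeAll liftOK 128 21376 = true := by decide +kernel

theorem lift3_run41 : rangeAll liftOK 128 21504 = true := by decide +kernel

theorem lift3_run42 : rangeAll liftOK 128 21632 = true := by decide +kernel

theorem lift3_run43 : rangeAll liftOK 128 21760 = true := by decide +kernel

theorem lift3_run44 : rangeAll liftOK 128 21888 = true := by decide +kernel

theorem lift3_run45 : rangeAll liftOK 128 22016 = true := by decide +kernel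

theorem lift3_run46 : rangeAll liftOK 128 22144 = true := by decide +kernel

theorem lift3_run47 : rangeAll liftOK 128 22272 = true := by decide +kernel

theorem lift3_run48 : rangeAll liftOK 128 22400 = true := by decide +kernel

theorem lift3_run49 : rangeAll liftOK 128 22528 = true := by decide +kernel

theorem lift3_run50 : rangeAll liftOK 128 22656 = true := by decide +kernel

theorem lift3_run51 : rangeAll liftOK 128 22784 = true := by decide +kernel

theorem lift3_run52 : rangeAll liftOK 128 22912 = true := by decide +kernel

theorem lift3_run53 : rangeAll liftOK 128 23040 = true := by decide +kernel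

theorem lift3_run54 : rangeAll liftOK 128 23168 = true := by decide +kernel

theorem lift3_run55 : rangeAll liftOK 128 23296 = true := by decide +kernel

theorem lift3_run56 : rangeAll liftOK 128 23424 = true := by decide +kernel

theorem lift3_run57 : rangeAll liftOK 128 23552 = true := by decide +kernel

theorem lift3_run58 : rangeAll liftOK 128 23680 = true := by decide +kernel

theorem lift3_run59 : rangeAll liftOK 128 23808 = true := by decide +kernel

theorem lift3_run60 : rangeAll liftOK 128 23936 = true := by decide +kernel

theorem lift3_run61 : rangeAll liftOK 128 24064 = true := by decide +kernel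

theorem lift3_run62 : rangeAll liftOK 128 24192 = true := by decide +kernel

theorem lift3_run63 : rangeAll liftOK 128 24320 = true := by decide +kernel

theorem lift3_run64 : rangeAll liftOK 128 24448 = true := by decide +kernel

theorem lift_part3 (P : Below liftOK 16384) : Below liftOK 24576 :=
  ((((((((((((((((((((((((((((((((((((((((((((((((((((((((((((((((P.step (b := 16512) lift3_run1 rfl).step (b := 16640) lift3_run2 rfl).step (b := 16768) lift3_run3 rfl).step (b := 16896) lift3_run4 rfl).step (b := 17024) lift3_run5 rfl).step (b := 17152) lift3_run6 rfl).step (b := 17280) lift3_run7 rfl).step (b := 17408) lift3_run8 rfl).step (b := 17536) lift3_run9 rfl).step (b := 17664) lift3_run10 rfl).step (b := 17792) lift3_run11 rfl).step (b := 17920) lift3_run12 rfl).step (b := 18048) lift3_run13 rfl).step (b := 18176) lift3_run14 rfl).step (b := 18304) lift3_run15 rfl).step (b := 18432) lift3_run16 rfl).step (b := 18560) lift3_run17 rfl).step (b := 18688) lift3_run18 rfl).step (b := 18816) lift3_run19 rfl).step (b := 18944) lift3_run20 rfl).step (b := 19072) lift3_run21 rfl).step (b := 19200) lift3_run22 rfl).step (b := 19328) lift3_run23 rfl).step (b := 19456) lift3_run24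 rfl).step (b := 19584) lift3_run25 rfl).step (b := 19712) lift3_run26 rfl).step (b := 19840) lift3_run27 rfl).step (b := 19968) lift3_run28 rfl).step (b := 20096) lift3_run29 rfl).step (b := 20224) lift3_run30 rfl).step (b := 20352) lift3_run31 rfl).step (b := 20480) lift3_run32 rfl).step (b := 20608) lift3_run33 rfl).step (b := 20736) lift3_run34 rfl).step (b := 20864) lift3_run35 rfl).step (b := 20992) lift3_run36 rfl).step (b := 21120) lift3_run37 rfl).step (b := 21248) lift3_run38 rfl).step (b := 21376) lift3_run39 rfl).step (b := 21504) lift3_run40 rfl).step (b := 21632) lift3_run41 rfl).step (b := 21760) lift3_run42 rfl).step (b := 21888) lift3_run43 rfl).step (b := 22016) lift3_run44 rfl).step (b := 22144) lift3_run45 rfl).step (b := 22272) lift3_run46 rfl).step (b := 22400) lift3_run47 rfl).step (b := 22528) lift3_run48 rfl).step (b := 22656) lift3_run49 rfl).step (b := 22784) lift3_run50 rfl).step (b := 22912) lift3_run51 rfl).step (b := 23040) lift3_run52 rfl).step (b := 23168) lift3_run53 rfl).step (b := 23296) lift3_run54 rfl).step (b := 23424) lift3_run55 rfl).step (b := 23552) lift3_run56 rfl).step (b := 23680) lift3_run57 rfl).step (b := 23808) lift3_run58 rfl).step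 (b := 23936) lift3_run59 rfl).step (b := 24064) lift3_run60 rfl).step (b := 24192) lift3_run61 rfl).step (b := 24320) lift3_run62 rfl).step (b := 24448) lift3_run63 rfl).step (b := 24576) lift3_run64 rfl)

end Cfsg.Agent.Lib.Compute.Sporadic.ON
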