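import Cfsg.Agent.Lib.Compute.Sporadic.ON.Charge

/-! Generated checks: relator charges. -/

set_option autoImplicit false
set_option Elab.async false

namespace Cfsg.Agent.Lib.Compute.Sporadic.ON

open Cfsg.Agent.Lib.CosetTable

theorem lift4_run1 : rangeAll liftOK 128 24576 = true := by decide +kernel

theorem lift4_run2 : rangeAll liftOK 128 24704 = true := by decide +kernel

theorem lift4_run3 : rangeAll liftOK 128 24832 = true := by decide +kernel

theorem lift4_run4 : rangeAll liftOK 128 24960 = true := by decide +kernel

theorem lift4_run5 : rangeAll liftOK 128 25088 = true := by decide +kernel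

theorem lift4_run6 : rangeAll liftOK 128 25216 = true := by decide +kernel

theorem lift4_run7 : rangeAll liftOK 128 25344 = true := by decide +kernel

theorem lift4_run8 : rangeAll liftOK 128 25472 = true := by decide +kernel

theorem lift4_run9 : rangeAll liftOK 128 25600 = true := by decide +kernel

theorem lift4_run10 : rangeAll liftOK 128 25728 = true := by decide +kernel

theorem lift4_run11 : rangeAll liftOK 128 25856 = true := by decide +kernel

theorem lift4_run12 : rangeAll liftOK 128 25984 = true := by decide +kernel

theorem lift4_run13 : rangeAll liftOK 128 26112 = true := by decide +kernel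

theorem lift4_run14 : rangeAll liftOK 128 26240 = true := by decide +kernel

theorem lift4_run15 : rangeAll liftOK 128 26368 = true := by decide +kernel

theorem lift4_run16 : rangeAll liftOK 128 26496 = true := by decide +kernel

theorem lift4_run17 : rangeAll liftOK 128 26624 = true := by decide +kernel

theorem lift4_run18 : rangeAll liftOK 128 26752 = true := by decide +kernel

theorem lift4_run19 : rangeAll liftOK 128 26880 = true := by decide +kernel

theorem lift4_run20 : rangeAll liftOK 128 27008 = true := by decide +kernel

theorem lift4_run21 : rangeAll liftOK 128 27136 = true := by decide +kernel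

theorem lift4_run22 : rangeAll liftOK 128 27264 = true := by decide +kernel

theorem lift4_run23 : rangeAll liftOK 128 27392 = true := by decide +kernel

theorem lift4_run24 : rangeAll liftOK 128 27520 = true := by decide +kernel

theorem lift4_run25 : rangeAll liftOK 128 27648 = true := by decide +kernel

theorem lift4_run26 : rangeAll liftOK 128 27776 = true := by decide +kernel

theorem lift4_run27 : rangeAll liftOK 128 27904 = true := by decide +kernel

theorem lift4_run28 : rangeAll liftOK 128 28032 = true := by decide +kernel

theorem lift4_run29 : rangeAll liftOK 128 28160 = true := by decide +kernel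

theorem lift4_run30 : rangeAll liftOK 128 28288 = true := by decide +kernel

theorem lift4_run31 : rangeAll liftOK 128 28416 = true := by decide +kernel

theorem lift4_run32 : rangeAll liftOK 128 28544 = true := by decide +kernel

theorem lift4_run33 : rangeAll liftOK 128 28672 = true := by decide +kernel

theorem lift4_run34 : rangeAll liftOK 128 28800 = true := by decide +kernel

theorem lift4_run35 : rangeAll liftOK 128 28928 = true := by decide +kernel

theorem lift4_run36 : rangeAll liftOK 128 29056 = true := by decide +kernel

theorem lift4_run37 : rangeAll liftOK 128 29184 = true := by decide +kernel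

theorem lift4_run38 : rangeAll liftOK 128 29312 = true := by decide +kernel

theorem lift4_run39 : rangeAll liftOK 128 29440 = true := by decide +kernel

theorem lift4_run40 : rangeAll liftOK 128 29568 = true := by decide +kernel

theorem lift4_run41 : rangeAll liftOK 128 29696 = true := by decide +kernel

theorem lift4_run42 : rangeAll liftOK 128 29824 = true := by decide +kernel

theorem lift4_run43 : rangeAll liftOK 128 29952 = true := by decide +kernel

theorem lift4_run44 : rangeAll liftOK 128 30080 = true := by decide +kernel

theorem lift4_run45 : rangeAll liftOK 128 30208 = true := by decide +kernel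

theorem lift4_run46 : rangeAll liftOK 128 30336 = true := by decide +kernel

theorem lift4_run47 : rangeAll liftOK 128 30464 = true := by decide +kernel

theorem lift4_run48 : rangeAll liftOK 128 30592 = true := by decide +kernel

theorem lift4_run49 : rangeAll liftOK 128 30720 = true := by decide +kernel

theorem lift4_run50 : rangeAll liftOK 128 30848 = true := by decide +kernel

theorem lift4_run51 : rangeAll liftOK 128 30976 = true := by decide +kernel

theorem lift4_run52 : rangeAll liftOK 128 31104 = true := by decide +kernel

theorem lift4_run53 : rangeAll liftOK 128 31232 = true := by decide +kernel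

theorem lift4_run54 : rangeAll liftOK 128 31360 = true := by decide +kernel

theorem lift4_run55 : rangeAll liftOK 128 31488 = true := by decide +kernel

theorem lift4_run56 : rangeAll liftOK 128 31616 = true := by decide +kernel

theorem lift4_run57 : rangeAll liftOK 128 31744 = true := by decide +kernel

theorem lift4_run58 : rangeAll liftOK 128 31872 = true := by decide +kernel

theorem lift4_run59 : rangeAll liftOK 128 32000 = true := by decide +kernel

theorem lift4_run60 : rangeAll liftOK 128 32128 = true := by decide +kernel

theorem lift4_run61 : rangeAll liftOK 128 32256 = true := by decide +kernel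

theorem lift4_run62 : rangeAll liftOK 128 32384 = true := by decide +kernel

theorem lift4_run63 : rangeAll liftOK 128 32512 = true := by decide +kernel

theorem lift4_run64 : rangeAll liftOK 128 32640 = true := by decide +kernel

theorem lift_part4 (P : Below liftOK 24576) : Below liftOK 32768 :=
  ((((((((((((((((((((((((((((((((((((((((((((((((((((((((((((((((P.step (b := 24704) lift4_run1 rfl).step (b := 24832) lift4_run2 rfl).step (b := 24960) lift4_run3 rfl).step (b := 25088) lift4_run4 rfl).step (b := 25216) lift4_run5 rfl).step (b := 25344) lift4_run6 rfl).step (b := 25472) lift4_run7 rfl).step (b := 25600) lift4_run8 rfl).step (b := 25728) lift4_run9 rfl).step (b := 25856) lift4_run10 rfl).step (b := 25984) lift4_run11 rfl).step (b := 26112) lift4_run12 rfl).step (b := 26240) lift4_run13 rfl).step (b := 26368) lift4_run14 rfl).step (b := 26496) lift4_run15 rfl).step (b := 26624) lift4_run16 rfl).step (b := 26752) lift4_run17 rfl).step (b := 26880) lift4_run18 rfl).step (b := 27008) lift4_run19 rfl).step (b := 27136) lift4_run20 rfl).step (b := 27264) lift4_run21 rfl).step (b := 27392) lift4_run22 rfl).step (b := 27520) lift4_run23 rfl).step (b := 27648) lift4_run24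 rfl).step (b := 27776) lift4_run25 rfl).step (b := 27904) lift4_run26 rfl).step (b := 28032) lift4_run27 rfl).step (b := 28160) lift4_run28 rfl).step (b := 28288) lift4_run29 rfl).step (b := 28416) lift4_run30 rfl).step (b := 28544) lift4_run31 rfl).step (b := 28672) lift4_run32 rfl).step (b := 28800) lift4_run33 rfl).step (b := 28928) lift4_run34 rfl).step (b := 29056) lift4_run35 rfl).step (b := 29184) lift4_run36 rfl).step (b := 29312) lift4_run37 rfl).step (b := 29440) lift4_run38 rfl).step (b := 29568) lift4_run39 rfl).step (b := 29696) lift4_run40 rfl).step (b := 29824) lift4_run41 rfl).step (b := 29952) lift4_run42 rfl).step (b := 30080) lift4_run43 rfl).step (b := 30208) lift4_run44 rfl).step (b := 30336) lift4_run45 rfl).step (b := 30464) lift4_run46 rfl).step (b := 30592) lift4_run47 rfl).step (b := 30720) lift4_run48 rfl).step (b := 30848) lift4_run49 rfl).step (b := 30976) lift4_run50 rfl).step (b := 31104) lift4_run51 rfl).step (b := 31232) lift4_run52 rfl).step (b := 31360) lift4_run53 rfl).step (b := 31488) lift4_run54 rfl).step (b := 31616) lift4_run55 rfl).step (b := 31744) lift4_run56 rfl).step (b := 31872) lift4_run57 rfl).step (b := 32000) lift4_run58 rfl).step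 (b := 32128) lift4_run59 rfl).step (b := 32256) lift4_run60 rfl).step (b := 32384) lift4_run61 rfl).step (b := 32512) lift4_run62 rfl).step (b := 32640) lift4_run63 rfl).step (b := 32768) lift4_run64 rfl)

end Cfsg.Agent.Lib.Compute.Sporadic.ON
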