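import Cfsg.Agent.Lib.Compute.Sporadic.ON.Charge

/-! Generated checks: relator charges. -/

set_option autoImplicit false
set_option Elab.async false

namespace Cfsg.Agent.Lib.Compute.Sporadic.ON

open Cfsg.Agent.Lib.CosetTable

theorem lift5_run1 : rangeAll liftOK 128 32768 = true := by decide +kernel

theorem lift5_run2 : rangeAll liftOK 128 32896 = true := by decide +kernel

theorem lift5_run3 : rangeAll liftOK 128 33024 = true := by decide +kernel

theorem lift5_run4 : rangeAll liftOK 128 33152 = true := by decide +kernel

theorem lift5_run5 : rangeAll liftOK 128 33280 = true := by decide +kernel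

theorem lift5_run6 : rangeAll liftOK 128 33408 = true := by decide +kernel

theorem lift5_run7 : rangeAll liftOK 128 33536 = true := by decide +kernel

theorem lift5_run8 : rangeAll liftOK 128 33664 = true := by decide +kernel

theorem lift5_run9 : rangeAll liftOK 128 33792 = true := by decide +kernel

theorem lift5_run10 : rangeAll liftOK 128 33920 = true := by decide +kernel

theorem lift5_run11 : rangeAll liftOK 128 34048 = true := by decide +kernel

theorem lift5_run12 : rangeAll liftOK 128 34176 = true := by decide +kernel

theorem lift5_run13 : rangeAll liftOK 128 34304 = true := by decide +kernel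

theorem lift5_run14 : rangeAll liftOK 128 34432 = true := by decide +kernel

theorem lift5_run15 : rangeAll liftOK 128 34560 = true := by decide +kernel

theorem lift5_run16 : rangeAll liftOK 128 34688 = true := by decide +kernel

theorem lift5_run17 : rangeAll liftOK 128 34816 = true := by decide +kernel

theorem lift5_run18 : rangeAll liftOK 128 34944 = true := by decide +kernel

theorem lift5_run19 : rangeAll liftOK 128 35072 = true := by decide +kernel

theorem lift5_run20 : rangeAll liftOK 128 35200 = true := by decide +kernel

theorem lift5_run21 : rangeAll liftOK 128 35328 = true := by decide +kernel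

theorem lift5_run22 : rangeAll liftOK 128 35456 = true := by decide +kernel

theorem lift5_run23 : rangeAll liftOK 128 35584 = true := by decide +kernel

theorem lift5_run24 : rangeAll liftOK 128 35712 = true := by decide +kernel

theorem lift5_run25 : rangeAll liftOK 128 35840 = true := by decide +kernel

theorem lift5_run26 : rangeAll liftOK 128 35968 = true := by decide +kernel

theorem lift5_run27 : rangeAll liftOK 128 36096 = true := by decide +kernel

theorem lift5_run28 : rangeAll liftOK 128 36224 = true := by decide +kernel

theorem lift5_run29 : rangeAll liftOK 128 36352 = true := by decide +kernel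

theorem lift5_run30 : rangeAll liftOK 128 36480 = true := by decide +kernel

theorem lift5_run31 : rangeAll liftOK 128 36608 = true := by decide +kernel

theorem lift5_run32 : rangeAll liftOK 128 36736 = true := by decide +kernel

theorem lift5_run33 : rangeAll liftOK 128 36864 = true := by decide +kernel

theorem lift5_run34 : rangeAll liftOK 128 36992 = true := by decide +kernel

theorem lift5_run35 : rangeAll liftOK 128 37120 = true := by decide +kernel

theorem lift5_run36 : rangeAll liftOK 128 37248 = true := by decide +kernel

theorem lift5_run37 : rangeAll liftOK 128 37376 = true := by decide +kernel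

theorem lift5_run38 : rangeAll liftOK 128 37504 = true := by decide +kernel

theorem lift5_run39 : rangeAll liftOK 128 37632 = true := by decide +kernel

theorem lift5_run40 : rangeAll liftOK 128 37760 = true := by decide +kernel

theorem lift5_run41 : rangeAll liftOK 128 37888 = true := by decide +kernel

theorem lift5_run42 : rangeAll liftOK 128 38016 = true := by decide +kernel

theorem lift5_run43 : rangeAll liftOK 128 38144 = true := by decide +kernel

theorem lift5_run44 : rangeAll liftOK 128 38272 = true := by decide +kernel

theorem lift5_run45 : rangeAll liftOK 128 38400 = true := by decide +kernel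

theorem lift5_run46 : rangeAll liftOK 128 38528 = true := by decide +kernel

theorem lift5_run47 : rangeAll liftOK 128 38656 = true := by decide +kernel

theorem lift5_run48 : rangeAll liftOK 128 38784 = true := by decide +kernel

theorem lift5_run49 : rangeAll liftOK 128 38912 = true := by decide +kernel

theorem lift5_run50 : rangeAll liftOK 128 39040 = true := by decide +kernel

theorem lift5_run51 : rangeAll liftOK 128 39168 = true := by decide +kernel

theorem lift5_run52 : rangeAll liftOK 128 39296 = true := by decide +kernel

theorem lift5_run53 : rangeAll liftOK 128 39424 = true := by decide +kernel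

theorem lift5_run54 : rangeAll liftOK 128 39552 = true := by decide +kernel

theorem lift5_run55 : rangeAll liftOK 128 39680 = true := by decide +kernel

theorem lift5_run56 : rangeAll liftOK 128 39808 = true := by decide +kernel

theorem lift5_run57 : rangeAll liftOK 128 39936 = true := by decide +kernel

theorem lift5_run58 : rangeAll liftOK 128 40064 = true := by decide +kernel

theorem lift5_run59 : rangeAll liftOK 128 40192 = true := by decide +kernel

theorem lift5_run60 : rangeAll liftOK 128 40320 = true := by decide +kernel

theorem lift5_run61 : rangeAll liftOK 128 40448 = true := by decide +kernel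

theorem lift5_run62 : rangeAll liftOK 128 40576 = true := by decide +kernel

theorem lift5_run63 : rangeAll liftOK 128 40704 = true := by decide +kernel

theorem lift5_run64 : rangeAll liftOK 128 40832 = true := by decide +kernel

theorem lift_part5 (P : Below liftOK 32768) : Below liftOK 40960 :=
  ((((((((((((((((((((((((((((((((((((((((((((((((((((((((((((((((P.step (b := 32896) lift5_run1 rfl).step (b := 33024) lift5_run2 rfl).step (b := 33152) lift5_run3 rfl).step (b := 33280) lift5_run4 rfl).step (b := 33408) lift5_run5 rfl).step (b := 33536) lift5_run6 rfl).step (b := 33664) lift5_run7 rfl).step (b := 33792) lift5_run8 rfl).step (b := 33920) lift5_run9 rfl).step (b := 34048) lift5_run10 rfl).step (b := 34176) lift5_run11 rfl).step (b := 34304) lift5_run12 rfl).step (b := 34432) lift5_run13 rfl).step (b := 34560) lift5_run14 rfl).step (b := 34688) lift5_run15 rfl).step (b := 34816) lift5_run16 rfl).step (b := 34944) lift5_run17 rfl).step (b := 35072) lift5_run18 rfl).step (b := 35200) lift5_run19 rfl).step (b := 35328) lift5_run20 rfl).step (b := 35456) lift5_run21 rfl).step (b := 35584) lift5_run22 rfl).step (b := 35712) lift5_run23 rfl).step (b := 35840) lift5_run24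 rfl).step (b := 35968) lift5_run25 rfl).step (b := 36096) lift5_run26 rfl).step (b := 36224) lift5_run27 rfl).step (b := 36352) lift5_run28 rfl).step (b := 36480) lift5_run29 rfl).step (b := 36608) lift5_run30 rfl).step (b := 36736) lift5_run31 rfl).step (b := 36864) lift5_run32 rfl).step (b := 36992) lift5_run33 rfl).step (b := 37120) lift5_run34 rfl).step (b := 37248) lift5_run35 rfl).step (b := 37376) lift5_run36 rfl).step (b := 37504) lift5_run37 rfl).step (b := 37632) lift5_run38 rfl).step (b := 37760) lift5_run39 rfl).step (b := 37888) lift5_run40 rfl).step (b := 38016) lift5_run41 rfl).step (b := 38144) lift5_run42 rfl).step (b := 38272) lift5_run43 rfl).step (b := 38400) lift5_run44 rfl).step (b := 38528) lift5_run45 rfl).step (b := 38656) lift5_run46 rfl).step (b := 38784) lift5_run47 rfl).step (b := 38912) lift5_run48 rfl).step (b := 39040) lift5_run49 rfl).step (b := 39168) lift5_run50 rfl).step (b := 39296) lift5_run51 rfl).step (b := 39424) lift5_run52 rfl).step (b := 39552) lift5_run53 rfl).step (b := 39680) lift5_run54 rfl).step (b := 39808) lift5_run55 rfl).step (b := 39936) lift5_run56 rfl).step (b := 40064) lift5_run57 rfl).step (b := 40192) lift5_run58 rfl).step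 (b := 40320) lift5_run59 rfl).step (b := 40448) lift5_run60 rfl).step (b := 40576) lift5_run61 rfl).step (b := 40704) lift5_run62 rfl).step (b := 40832) lift5_run63 rfl).step (b := 40960) lift5_run64 rfl)

end Cfsg.Agent.Lib.Compute.Sporadic.ON
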