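import Cfsg.Agent.Lib.Compute.Sporadic.ON.Charge

/-! Generated checks: relator charges. -/

set_option autoImplicit false
set_option Elab.async false

namespace Cfsg.Agent.Lib.Compute.Sporadic.ON

open Cfsg.Agent.Lib.CosetTable

theorem lift6_run1 : rangeAll liftOK 128 40960 = true := by decide +kernel

theorem lift6_run2 : rangeAll liftOK 128 41088 = true := by decide +kernel

theorem lift6_run3 : rangeAll liftOK 128 41216 = true := by decide +kernel

theorem lift6_run4 : rangeAll liftOK 128 41344 = true := by decide +kernel

theorem lift6_run5 : rangeAll liftOK 128 41472 = true := by decide +kernel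

theorem lift6_run6 : rangeAll liftOK 128 41600 = true := by decide +kernel

theorem lift6_run7 : rangeAll liftOK 128 41728 = true := by decide +kernel

theorem lift6_run8 : rangeAll liftOK 128 41856 = true := by decide +kernel

theorem lift6_run9 : rangeAll liftOK 128 41984 = true := by decide +kernel

theorem lift6_run10 : rangeAll liftOK 128 42112 = true := by decide +kernel

theorem lift6_run11 : rangeAll liftOK 128 42240 = true := by decide +kernel

theorem lift6_run12 : rangeAll liftOK 128 42368 = true := by decide +kernel

theorem lift6_run13 : rangeAll liftOK 128 42496 = true := by decide +kernel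

theorem lift6_run14 : rangeAll liftOK 128 42624 = true := by decide +kernel

theorem lift6_run15 : rangeAll liftOK 128 42752 = true := by decide +kernel

theorem lift6_run16 : rangeAll liftOK 128 42880 = true := by decide +kernel

theorem lift6_run17 : rangeAll liftOK 128 43008 = true := by decide +kernel

theorem lift6_run18 : rangeAll liftOK 128 43136 = true := by decide +kernel

theorem lift6_run19 : rangeAll liftOK 128 43264 = true := by decide +kernel

theorem lift6_run20 : rangeAll liftOK 128 43392 = true := by decide +kernel

theorem lift6_run21 : rangeAll liftOK 128 43520 = true := by decide +kernel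

theorem lift6_run22 : rangeAll liftOK 128 43648 = true := by decide +kernel

theorem lift6_run23 : rangeAll liftOK 128 43776 = true := by decide +kernel

theorem lift6_run24 : rangeAll liftOK 128 43904 = true := by decide +kernel

theorem lift6_run25 : rangeAll liftOK 128 44032 = true := by decide +kernel

theorem lift6_run26 : rangeAll liftOK 128 44160 = true := by decide +kernel

theorem lift6_run27 : rangeAll liftOK 128 44288 = true := by decide +kernel

theorem lift6_run28 : rangeAll liftOK 128 44416 = true := by decide +kernel

theorem lift6_run29 : rangeAll liftOK 128 44544 = true := by decide +kernel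

theorem lift6_run30 : rangeAll liftOK 128 44672 = true := by decide +kernel

theorem lift6_run31 : rangeAll liftOK 128 44800 = true := by decide +kernel

theorem lift6_run32 : rangeAll liftOK 128 44928 = true := by decide +kernel

theorem lift6_run33 : rangeAll liftOK 128 45056 = true := by decide +kernel

theorem lift6_run34 : rangeAll liftOK 128 45184 = true := by decide +kernel

theorem lift6_run35 : rangeAll liftOK 128 45312 = true := by decide +kernel

theorem lift6_run36 : rangeAll liftOK 128 45440 = true := by decide +kernel

theorem lift6_run37 : rangeAll liftOK 128 45568 = true := by decide +kernel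

theorem lift6_run38 : rangeAll liftOK 128 45696 = true := by decide +kernel

theorem lift6_run39 : rangeAll liftOK 128 45824 = true := by decide +kernel

theorem lift6_run40 : rangeAll liftOK 128 45952 = true := by decide +kernel

theorem lift6_run41 : rangeAll liftOK 128 46080 = true := by decide +kernel

theorem lift6_run42 : rangeAll liftOK 128 46208 = true := by decide +kernel

theorem lift6_run43 : rangeAll liftOK 128 46336 = true := by decide +kernel

theorem lift6_run44 : rangeAll liftOK 128 46464 = true := by decide +kernel

theorem lift6_run45 : rangeAll liftOK 128 46592 = true := by decide +kernel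

theorem lift6_run46 : rangeAll liftOK 128 46720 = true := by decide +kernel

theorem lift6_run47 : rangeAll liftOK 128 46848 = true := by decide +kernel

theorem lift6_run48 : rangeAll liftOK 128 46976 = true := by decide +kernel

theorem lift6_run49 : rangeAll liftOK 128 47104 = true := by decide +kernel

theorem lift6_run50 : rangeAll liftOK 128 47232 = true := by decide +kernel

theorem lift6_run51 : rangeAll liftOK 128 47360 = true := by decide +kernel

theorem lift6_run52 : rangeAll liftOK 128 47488 = true := by decide +kernel

theorem lift6_run53 : rangeAll liftOK 128 47616 = true := by decide +kernel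

theorem lift6_run54 : rangeAll liftOK 128 47744 = true := by decide +kernel

theorem lift6_run55 : rangeAll liftOK 128 47872 = true := by decide +kernel

theorem lift6_run56 : rangeAll liftOK 128 48000 = true := by decide +kernel

theorem lift6_run57 : rangeAll liftOK 128 48128 = true := by decide +kernel

theorem lift6_run58 : rangeAll liftOK 128 48256 = true := by decide +kernel

theorem lift6_run59 : rangeAll liftOK 128 48384 = true := by decide +kernel

theorem lift6_run60 : rangeAll liftOK 128 48512 = true := by decide +kernel

theorem lift6_run61 : rangeAll liftOK 128 48640 = true := by decide +kernel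

theorem lift6_run62 : rangeAll liftOK 128 48768 = true := by decide +kernel

theorem lift6_run63 : rangeAll liftOK 128 48896 = true := by decide +kernel

theorem lift6_run64 : rangeAll liftOK 128 49024 = true := by decide +kernel

theorem lift_part6 (P : Below liftOK 40960) : Below liftOK 49152 :=
  ((((((((((((((((((((((((((((((((((((((((((((((((((((((((((((((((P.step (b := 41088) lift6_run1 rfl).step (b := 41216) lift6_run2 rfl).step (b := 41344) lift6_run3 rfl).step (b := 41472) lift6_run4 rfl).step (b := 41600) lift6_run5 rfl).step (b := 41728) lift6_run6 rfl).step (b := 41856) lift6_run7 rfl).step (b := 41984) lift6_run8 rfl).step (b := 42112) lift6_run9 rfl).step (b := 42240) lift6_run10 rfl).step (b := 42368) lift6_run11 rfl).step (b := 42496) lift6_run12 rfl).step (b := 42624) lift6_run13 rfl).step (b := 42752) lift6_run14 rfl).step (b := 42880) lift6_run15 rfl).step (b := 43008) lift6_run16 rfl).step (b := 43136) lift6_run17 rfl).step (b := 43264) lift6_run18 rfl).step (b := 43392) lift6_run19 rfl).step (b := 43520) lift6_run20 rfl).step (b := 43648) lift6_run21 rfl).step (b := 43776) lift6_run22 rfl).step (b := 43904) lift6_run23 rfl).step (b := 44032) lift6_run24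 rfl).step (b := 44160) lift6_run25 rfl).step (b := 44288) lift6_run26 rfl).step (b := 44416) lift6_run27 rfl).step (b := 44544) lift6_run28 rfl).step (b := 44672) lift6_run29 rfl).step (b := 44800) lift6_run30 rfl).step (b := 44928) lift6_run31 rfl).step (b := 45056) lift6_run32 rfl).step (b := 45184) lift6_run33 rfl).step (b := 45312) lift6_run34 rfl).step (b := 45440) lift6_run35 rfl).step (b := 45568) lift6_run36 rfl).step (b := 45696) lift6_run37 rfl).step (b := 45824) lift6_run38 rfl).step (b := 45952) lift6_run39 rfl).step (b := 46080) lift6_run40 rfl).step (b := 46208) lift6_run41 rfl).step (b := 46336) lift6_run42 rfl).step (b := 46464) lift6_run43 rfl).step (b := 46592) lift6_run44 rfl).step (b := 46720) lift6_run45 rfl).step (b := 46848) lift6_run46 rfl).step (b := 46976) lift6_run47 rfl).step (b := 47104) lift6_run48 rfl).step (b := 47232) lift6_run49 rfl).step (b := 47360) lift6_run50 rfl).step (b := 47488) lift6_run51 rfl).step (b := 47616) lift6_run52 rfl).step (b := 47744) lift6_run53 rfl).step (b := 47872) lift6_run54 rfl).step (b := 48000) lift6_run55 rfl).step (b := 48128) lift6_run56 rfl).step (b := 48256) lift6_run57 rfl).step (b := 48384) lift6_run58 rfl).step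 (b := 48512) lift6_run59 rfl).step (b := 48640) lift6_run60 rfl).step (b := 48768) lift6_run61 rfl).step (b := 48896) lift6_run62 rfl).step (b := 49024) lift6_run63 rfl).step (b := 49152) lift6_run64 rfl)

end Cfsg.Agent.Lib.Compute.Sporadic.ON
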