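import Cfsg.Agent.Lib.Compute.Sporadic.ON.Charge

/-! Generated checks: relator charges. -/

set_option autoImplicit false
set_option Elab.async false

namespace Cfsg.Agent.Lib.Compute.Sporadic.ON

open Cfsg.Agent.Lib.CosetTable

theorem lift7_run1 : rangeAll liftOK 128 49152 = true := by decide +kernel

theorem lift7_run2 : rangeAll liftOK 128 49280 = true := by decide +kernel

theorem lift7_run3 : rangeAll liftOK 128 49408 = true := by decide +kernel

theorem lift7_run4 : rangeAll liftOK 128 49536 = true := by decide +kernel

theorem lift7_run5 : rangeAll liftOK 128 49664 = true := by decide +kernel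

theorem lift7_run6 : rangeAll liftOK 128 49792 = true := by decide +kernel

theorem lift7_run7 : rangeAll liftOK 128 49920 = true := by decide +kernel

theorem lift7_run8 : rangeAll liftOK 128 50048 = true := by decide +kernel

theorem lift7_run9 : rangeAll liftOK 128 50176 = true := by decide +kernel

theorem lift7_run10 : rangeAll liftOK 128 50304 = true := by decide +kernel

theorem lift7_run11 : rangeAll liftOK 128 50432 = true := by decide +kernel

theorem lift7_run12 : rangeAll liftOK 128 50560 = true := by decide +kernel

theorem lift7_run13 : rangeAll liftOK 128 50688 = true := by decide +kernel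

theorem lift7_run14 : rangeAll liftOK 128 50816 = true := by decide +kernel

theorem lift7_run15 : rangeAll liftOK 128 50944 = true := by decide +kernel

theorem lift7_run16 : rangeAll liftOK 128 51072 = true := by decide +kernel

theorem lift7_run17 : rangeAll liftOK 128 51200 = true := by decide +kernel

theorem lift7_run18 : rangeAll liftOK 128 51328 = true := by decide +kernel

theorem lift7_run19 : rangeAll liftOK 128 51456 = true := by decide +kernel

theorem lift7_run20 : rangeAll liftOK 128 51584 = true := by decide +kernel

theorem lift7_run21 : rangeAll liftOK 128 51712 = true := by decide +kernel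

theorem lift7_run22 : rangeAll liftOK 128 51840 = true := by decide +kernel

theorem lift7_run23 : rangeAll liftOK 128 51968 = true := by decide +kernel

theorem lift7_run24 : rangeAll liftOK 128 52096 = true := by decide +kernel

theorem lift7_run25 : rangeAll liftOK 128 52224 = true := by decide +kernel

theorem lift7_run26 : rangeAll liftOK 128 52352 = true := by decide +kernel

theorem lift7_run27 : rangeAll liftOK 128 52480 = true := by decide +kernel

theorem lift7_run28 : rangeAll liftOK 128 52608 = true := by decide +kernel

theorem lift7_run29 : rangeAll liftOK 128 52736 = true := by decide +kernel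

theorem lift7_run30 : rangeAll liftOK 128 52864 = true := by decide +kernel

theorem lift7_run31 : rangeAll liftOK 128 52992 = true := by decide +kernel

theorem lift7_run32 : rangeAll liftOK 128 53120 = true := by decide +kernel

theorem lift7_run33 : rangeAll liftOK 128 53248 = true := by decide +kernel

theorem lift7_run34 : rangeAll liftOK 128 53376 = true := by decide +kernel

theorem lift7_run35 : rangeAll liftOK 128 53504 = true := by decide +kernel

theorem lift7_run36 : rangeAll liftOK 128 53632 = true := by decide +kernel

theorem lift7_run37 : rangeAll liftOK 128 53760 = true := by decide +kernel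

theorem lift7_run38 : rangeAll liftOK 128 53888 = true := by decide +kernel

theorem lift7_run39 : rangeAll liftOK 128 54016 = true := by decide +kernel

theorem lift7_run40 : rangeAll liftOK 128 54144 = true := by decide +kernel

theorem lift7_run41 : rangeAll liftOK 128 54272 = true := by decide +kernel

theorem lift7_run42 : rangeAll liftOK 128 54400 = true := by decide +kernel

theorem lift7_run43 : rangeAll liftOK 128 54528 = true := by decide +kernel

theorem lift7_run44 : rangeAll liftOK 128 54656 = true := by decide +kernel

theorem lift7_run45 : rangeAll liftOK 128 54784 = true := by decide +kernel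

theorem lift7_run46 : rangeAll liftOK 128 54912 = true := by decide +kernel

theorem lift7_run47 : rangeAll liftOK 128 55040 = true := by decide +kernel

theorem lift7_run48 : rangeAll liftOK 128 55168 = true := by decide +kernel

theorem lift7_run49 : rangeAll liftOK 128 55296 = true := by decide +kernel

theorem lift7_run50 : rangeAll liftOK 128 55424 = true := by decide +kernel

theorem lift7_run51 : rangeAll liftOK 128 55552 = true := by decide +kernel

theorem lift7_run52 : rangeAll liftOK 128 55680 = true := by decide +kernel

theorem lift7_run53 : rangeAll liftOK 128 55808 = true := by decide +kernel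

theorem lift7_run54 : rangeAll liftOK 128 55936 = true := by decide +kernel

theorem lift7_run55 : rangeAll liftOK 128 56064 = true := by decide +kernel

theorem lift7_run56 : rangeAll liftOK 128 56192 = true := by decide +kernel

theorem lift7_run57 : rangeAll liftOK 128 56320 = true := by decide +kernel

theorem lift7_run58 : rangeAll liftOK 128 56448 = true := by decide +kernel

theorem lift7_run59 : rangeAll liftOK 128 56576 = true := by decide +kernel

theorem lift7_run60 : rangeAll liftOK 128 56704 = true := by decide +kernel

theorem lift7_run61 : rangeAll liftOK 128 56832 = true := by decide +kernel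

theorem lift7_run62 : rangeAll liftOK 128 56960 = true := by decide +kernel

theorem lift7_run63 : rangeAll liftOK 128 57088 = true := by decide +kernel

theorem lift7_run64 : rangeAll liftOK 128 57216 = true := by decide +kernel

theorem lift_part7 (P : Below liftOK 49152) : Below liftOK 57344 :=
  ((((((((((((((((((((((((((((((((((((((((((((((((((((((((((((((((P.step (b := 49280) lift7_run1 rfl).step (b := 49408) lift7_run2 rfl).step (b := 49536) lift7_run3 rfl).step (b := 49664) lift7_run4 rfl).step (b := 49792) lift7_run5 rfl).step (b := 49920) lift7_run6 rfl).step (b := 50048) lift7_run7 rfl).step (b := 50176) lift7_run8 rfl).step (b := 50304) lift7_run9 rfl).step (b := 50432) lift7_run10 rfl).step (b := 50560) lift7_run11 rfl).step (b := 50688) lift7_run12 rfl).step (b := 50816) lift7_run13 rfl).step (b := 50944) lift7_run14 rfl).step (b := 51072) lift7_run15 rfl).step (b := 51200) lift7_run16 rfl).step (b := 51328) lift7_run17 rfl).step (b := 51456) lift7_run18 rfl).step (b := 51584) lift7_run19 rfl).step (b := 51712) lift7_run20 rfl).step (b := 51840) lift7_run21 rfl).step (b := 51968) lift7_run22 rfl).step (b := 52096) lift7_run23 rfl).step (b := 52224) lift7_run24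 rfl).step (b := 52352) lift7_run25 rfl).step (b := 52480) lift7_run26 rfl).step (b := 52608) lift7_run27 rfl).step (b := 52736) lift7_run28 rfl).step (b := 52864) lift7_run29 rfl).step (b := 52992) lift7_run30 rfl).step (b := 53120) lift7_run31 rfl).step (b := 53248) lift7_run32 rfl).step (b := 53376) lift7_run33 rfl).step (b := 53504) lift7_run34 rfl).step (b := 53632) lift7_run35 rfl).step (b := 53760) lift7_run36 rfl).step (b := 53888) lift7_run37 rfl).step (b := 54016) lift7_run38 rfl).step (b := 54144) lift7_run39 rfl).step (b := 54272) lift7_run40 rfl).step (b := 54400) lift7_run41 rfl).step (b := 54528) lift7_run42 rfl).step (b := 54656) lift7_run43 rfl).step (b := 54784) lift7_run44 rfl).step (b := 54912) lift7_run45 rfl).step (b := 55040) lift7_run46 rfl).step (b := 55168) lift7_run47 rfl).step (b := 55296) lift7_run48 rfl).step (b := 55424) lift7_run49 rfl).step (b := 55552) lift7_run50 rfl).step (b := 55680) lift7_run51 rfl).step (b := 55808) lift7_run52 rfl).step (b := 55936) lift7_run53 rfl).step (b := 56064) lift7_run54 rfl).step (b := 56192) lift7_run55 rfl).step (b := 56320) lift7_run56 rfl).step (b := 56448) lift7_run57 rfl).step (b := 56576) lift7_run58 rfl).step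 (b := 56704) lift7_run59 rfl).step (b := 56832) lift7_run60 rfl).step (b := 56960) lift7_run61 rfl).step (b := 57088) lift7_run62 rfl).step (b := 57216) lift7_run63 rfl).step (b := 57344) lift7_run64 rfl)

end Cfsg.Agent.Lib.Compute.Sporadic.ON
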