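import Cfsg.Agent.Lib.Compute.Sporadic.ON.Charge

/-! Generated checks: relator charges. -/

set_option autoImplicit false
set_option Elab.async false

namespace Cfsg.Agent.Lib.Compute.Sporadic.ON

open Cfsg.Agent.Lib.CosetTable

theorem lift8_run1 : rangeAll liftOK 128 57344 = true := by decide +kernel

theorem lift8_run2 : rangeAll liftOK 128 57472 = true := by decide +kernel

theorem lift8_run3 : rangeAll liftOK 128 57600 = true := by decide +kernel

theorem lift8_run4 : rangeAll liftOK 128 57728 = true := by decide +kernel

theorem lift8_run5 : rangeAll liftOK 128 57856 = true := by decide +kernel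

theorem lift8_run6 : rangeAll liftOK 128 57984 = true := by decide +kernel

theorem lift8_run7 : rangeAll liftOK 128 58112 = true := by decide +kernel

theorem lift8_run8 : rangeAll liftOK 128 58240 = true := by decide +kernel

theorem lift8_run9 : rangeAll liftOK 128 58368 = true := by decide +kernel

theorem lift8_run10 : rangeAll liftOK 128 58496 = true := by decide +kernel

theorem lift8_run11 : rangeAll liftOK 128 58624 = true := by decide +kernel

theorem lift8_run12 : rangeAll liftOK 128 58752 = true := by decide +kernel

theorem lift8_run13 : rangeAll liftOK 128 58880 = true := by decide +kernel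

theorem lift8_run14 : rangeAll liftOK 128 59008 = true := by decide +kernel

theorem lift8_run15 : rangeAll liftOK 128 59136 = true := by decide +kernel

theorem lift8_run16 : rangeAll liftOK 128 59264 = true := by decide +kernel

theorem lift8_run17 : rangeAll liftOK 128 59392 = true := by decide +kernel

theorem lift8_run18 : rangeAll liftOK 128 59520 = true := by decide +kernel

theorem lift8_run19 : rangeAll liftOK 128 59648 = true := by decide +kernel

theorem lift8_run20 : rangeAll liftOK 128 59776 = true := by decide +kernel

theorem lift8_run21 : rangeAll liftOK 128 59904 = true := by decide +kernel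

theorem lift8_run22 : rangeAll liftOK 128 60032 = true := by decide +kernel

theorem lift8_run23 : rangeAll liftOK 128 60160 = true := by decide +kernel

theorem lift8_run24 : rangeAll liftOK 128 60288 = true := by decide +kernel

theorem lift8_run25 : rangeAll liftOK 128 60416 = true := by decide +kernel

theorem lift8_run26 : rangeAll liftOK 128 60544 = true := by decide +kernel

theorem lift8_run27 : rangeAll liftOK 128 60672 = true := by decide +kernel

theorem lift8_run28 : rangeAll liftOK 128 60800 = true := by decide +kernel

theorem lift8_run29 : rangeAll liftOK 128 60928 = true := by decide +kernel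

theorem lift8_run30 : rangeAll liftOK 128 61056 = true := by decide +kernel

theorem lift8_run31 : rangeAll liftOK 128 61184 = true := by decide +kernel

theorem lift8_run32 : rangeAll liftOK 128 61312 = true := by decide +kernel

theorem lift8_run33 : rangeAll liftOK 128 61440 = true := by decide +kernel

theorem lift8_run34 : rangeAll liftOK 128 61568 = true := by decide +kernel

theorem lift8_run35 : rangeAll liftOK 128 61696 = true := by decide +kernel

theorem lift8_run36 : rangeAll liftOK 128 61824 = true := by decide +kernel

theorem lift8_run37 : rangeAll liftOK 128 61952 = true := by decide +kernel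

theorem lift8_run38 : rangeAll liftOK 128 62080 = true := by decide +kernel

theorem lift8_run39 : rangeAll liftOK 128 62208 = true := by decide +kernel

theorem lift8_run40 : rangeAll liftOK 128 62336 = true := by decide +kernel

theorem lift8_run41 : rangeAll liftOK 128 62464 = true := by decide +kernel

theorem lift8_run42 : rangeAll liftOK 128 62592 = true := by decide +kernel

theorem lift8_run43 : rangeAll liftOK 128 62720 = true := by decide +kernel

theorem lift8_run44 : rangeAll liftOK 128 62848 = true := by decide +kernel

theorem lift8_run45 : rangeAll liftOK 128 62976 = true := by decide +kernel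

theorem lift8_run46 : rangeAll liftOK 128 63104 = true := by decide +kernel

theorem lift8_run47 : rangeAll liftOK 128 63232 = true := by decide +kernel

theorem lift8_run48 : rangeAll liftOK 128 63360 = true := by decide +kernel

theorem lift8_run49 : rangeAll liftOK 128 63488 = true := by decide +kernel

theorem lift8_run50 : rangeAll liftOK 128 63616 = true := by decide +kernel

theorem lift8_run51 : rangeAll liftOK 128 63744 = true := by decide +kernel

theorem lift8_run52 : rangeAll liftOK 128 63872 = true := by decide +kernel

theorem lift8_run53 : rangeAll liftOK 128 64000 = true := by decide +kernel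

theorem lift8_run54 : rangeAll liftOK 128 64128 = true := by decide +kernel

theorem lift8_run55 : rangeAll liftOK 128 64256 = true := by decide +kernel

theorem lift8_run56 : rangeAll liftOK 128 64384 = true := by decide +kernel

theorem lift8_run57 : rangeAll liftOK 128 64512 = true := by decide +kernel

theorem lift8_run58 : rangeAll liftOK 128 64640 = true := by decide +kernel

theorem lift8_run59 : rangeAll liftOK 128 64768 = true := by decide +kernel

theorem lift8_run60 : rangeAll liftOK 128 64896 = true := by decide +kernel

theorem lift8_run61 : rangeAll liftOK 128 65024 = true := by decide +kernel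

theorem lift8_run62 : rangeAll liftOK 128 65152 = true := by decide +kernel

theorem lift8_run63 : rangeAll liftOK 128 65280 = true := by decide +kernel

theorem lift8_run64 : rangeAll liftOK 128 65408 = true := by decide +kernel

theorem lift_part8 (P : Below liftOK 57344) : Below liftOK 65536 :=
  ((((((((((((((((((((((((((((((((((((((((((((((((((((((((((((((((P.step (b := 57472) lift8_run1 rfl).step (b := 57600) lift8_run2 rfl).step (b := 57728) lift8_run3 rfl).step (b := 57856) lift8_run4 rfl).step (b := 57984) lift8_run5 rfl).step (b := 58112) lift8_run6 rfl).step (b := 58240) lift8_run7 rfl).step (b := 58368) lift8_run8 rfl).step (b := 58496) lift8_run9 rfl).step (b := 58624) lift8_run10 rfl).step (b := 58752) lift8_run11 rfl).step (b := 58880) lift8_run12 rfl).step (b := 59008) lift8_run13 rfl).step (b := 59136) lift8_run14 rfl).step (b := 59264) lift8_run15 rfl).step (b := 59392) lift8_run16 rfl).step (b := 59520) lift8_run17 rfl).step (b := 59648) lift8_run18 rfl).step (b := 59776) lift8_run19 rfl).step (b := 59904) lift8_run20 rfl).step (b := 60032) lift8_run21 rfl).step (b := 60160) lift8_run22 rfl).step (b := 60288) lift8_run23 rfl).step (b := 60416) lift8_run24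 rfl).step (b := 60544) lift8_run25 rfl).step (b := 60672) lift8_run26 rfl).step (b := 60800) lift8_run27 rfl).step (b := 60928) lift8_run28 rfl).step (b := 61056) lift8_run29 rfl).step (b := 61184) lift8_run30 rfl).step (b := 61312) lift8_run31 rfl).step (b := 61440) lift8_run32 rfl).step (b := 61568) lift8_run33 rfl).step (b := 61696) lift8_run34 rfl).step (b := 61824) lift8_run35 rfl).step (b := 61952) lift8_run36 rfl).step (b := 62080) lift8_run37 rfl).step (b := 62208) lift8_run38 rfl).step (b := 62336) lift8_run39 rfl).step (b := 62464) lift8_run40 rfl).step (b := 62592) lift8_run41 rfl).step (b := 62720) lift8_run42 rfl).step (b := 62848) lift8_run43 rfl).step (b := 62976) lift8_run44 rfl).step (b := 63104) lift8_run45 rfl).step (b := 63232) lift8_run46 rfl).step (b := 63360) lift8_run47 rfl).step (b := 63488) lift8_run48 rfl).step (b := 63616) lift8_run49 rfl).step (b := 63744) lift8_run50 rfl).step (b := 63872) lift8_run51 rfl).step (b := 64000) lift8_run52 rfl).step (b := 64128) lift8_run53 rfl).step (b := 64256) lift8_run54 rfl).step (b := 64384) lift8_run55 rfl).step (b := 64512) lift8_run56 rfl).step (b := 64640) lift8_run57 rfl).step (b := 64768) lift8_run58 rfl).step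 (b := 64896) lift8_run59 rfl).step (b := 65024) lift8_run60 rfl).step (b := 65152) lift8_run61 rfl).step (b := 65280) lift8_run62 rfl).step (b := 65408) lift8_run63 rfl).step (b := 65536) lift8_run64 rfl)

end Cfsg.Agent.Lib.Compute.Sporadic.ON
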