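import Cfsg.Agent.Lib.Compute.Sporadic.ON.Charge

/-! Generated checks: relator charges. -/

set_option autoImplicit false
set_option Elab.async false

namespace Cfsg.Agent.Lib.Compute.Sporadic.ON

open Cfsg.Agent.Lib.CosetTable

theorem lift9_run1 : rangeAll liftOK 128 65536 = true := by decide +kernel

theorem lift9_run2 : rangeAll liftOK 128 65664 = true := by decide +kernel

theorem lift9_run3 : rangeAll liftOK 128 65792 = true := by decide +kernel

theorem lift9_run4 : rangeAll liftOK 128 65920 = true := by decide +kernel

theorem lift9_run5 : rangeAll liftOK 128 66048 = true := by decide +kernel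

theorem lift9_run6 : rangeAll liftOK 128 66176 = true := by decide +kernel

theorem lift9_run7 : rangeAll liftOK 128 66304 = true := by decide +kernel

theorem lift9_run8 : rangeAll liftOK 128 66432 = true := by decide +kernel

theorem lift9_run9 : rangeAll liftOK 128 66560 = true := by decide +kernel

theorem lift9_run10 : rangeAll liftOK 128 66688 = true := by decide +kernel

theorem lift9_run11 : rangeAll liftOK 128 66816 = true := by decide +kernel

theorem lift9_run12 : rangeAll liftOK 128 66944 = true := by decide +kernel

theorem lift9_run13 : rangeAll liftOK 128 67072 = true := by decide +kernel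

theorem lift9_run14 : rangeAll liftOK 128 67200 = true := by decide +kernel

theorem lift9_run15 : rangeAll liftOK 128 67328 = true := by decide +kernel

theorem lift9_run16 : rangeAll liftOK 128 67456 = true := by decide +kernel

theorem lift9_run17 : rangeAll liftOK 128 67584 = true := by decide +kernel

theorem lift9_run18 : rangeAll liftOK 128 67712 = true := by decide +kernel

theorem lift9_run19 : rangeAll liftOK 128 67840 = true := by decide +kernel

theorem lift9_run20 : rangeAll liftOK 128 67968 = true := by decide +kernel

theorem lift9_run21 : rangeAll liftOK 128 68096 = true := by decide +kernel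

theorem lift9_run22 : rangeAll liftOK 128 68224 = true := by decide +kernel

theorem lift9_run23 : rangeAll liftOK 128 68352 = true := by decide +kernel

theorem lift9_run24 : rangeAll liftOK 128 68480 = true := by decide +kernel

theorem lift9_run25 : rangeAll liftOK 128 68608 = true := by decide +kernel

theorem lift9_run26 : rangeAll liftOK 128 68736 = true := by decide +kernel

theorem lift9_run27 : rangeAll liftOK 128 68864 = true := by decide +kernel

theorem lift9_run28 : rangeAll liftOK 128 68992 = true := by decide +kernel

theorem lift9_run29 : rangeAll liftOK 128 69120 = true := by decide +kernel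

theorem lift9_run30 : rangeAll liftOK 128 69248 = true := by decide +kernel

theorem lift9_run31 : rangeAll liftOK 128 69376 = true := by decide +kernel

theorem lift9_run32 : rangeAll liftOK 128 69504 = true := by decide +kernel

theorem lift9_run33 : rangeAll liftOK 128 69632 = true := by decide +kernel

theorem lift9_run34 : rangeAll liftOK 128 69760 = true := by decide +kernel

theorem lift9_run35 : rangeAll liftOK 128 69888 = true := by decide +kernel

theorem lift9_run36 : rangeAll liftOK 128 70016 = true := by decide +kernel

theorem lift9_run37 : rangeAll liftOK 128 70144 = true := by decide +kernel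

theorem lift9_run38 : rangeAll liftOK 128 70272 = true := by decide +kernel

theorem lift9_run39 : rangeAll liftOK 128 70400 = true := by decide +kernel

theorem lift9_run40 : rangeAll liftOK 128 70528 = true := by decide +kernel

theorem lift9_run41 : rangeAll liftOK 128 70656 = true := by decide +kernel

theorem lift9_run42 : rangeAll liftOK 128 70784 = true := by decide +kernel

theorem lift9_run43 : rangeAll liftOK 128 70912 = true := by decide +kernel

theorem lift9_run44 : rangeAll liftOK 128 71040 = true := by decide +kernel

theorem lift9_run45 : rangeAll liftOK 128 71168 = true := by decide +kernel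

theorem lift9_run46 : rangeAll liftOK 128 71296 = true := by decide +kernel

theorem lift9_run47 : rangeAll liftOK 128 71424 = true := by decide +kernel

theorem lift9_run48 : rangeAll liftOK 128 71552 = true := by decide +kernel

theorem lift9_run49 : rangeAll liftOK 128 71680 = true := by decide +kernel

theorem lift9_run50 : rangeAll liftOK 128 71808 = true := by decide +kernel

theorem lift9_run51 : rangeAll liftOK 128 71936 = true := by decide +kernel

theorem lift9_run52 : rangeAll liftOK 128 72064 = true := by decide +kernel

theorem lift9_run53 : rangeAll liftOK 128 72192 = true := by decide +kernel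

theorem lift9_run54 : rangeAll liftOK 128 72320 = true := by decide +kernel

theorem lift9_run55 : rangeAll liftOK 128 72448 = true := by decide +kernel

theorem lift9_run56 : rangeAll liftOK 128 72576 = true := by decide +kernel

theorem lift9_run57 : rangeAll liftOK 128 72704 = true := by decide +kernel

theorem lift9_run58 : rangeAll liftOK 128 72832 = true := by decide +kernel

theorem lift9_run59 : rangeAll liftOK 128 72960 = true := by decide +kernel

theorem lift9_run60 : rangeAll liftOK 128 73088 = true := by decide +kernel

theorem lift9_run61 : rangeAll liftOK 128 73216 = true := by decide +kernel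

theorem lift9_run62 : rangeAll liftOK 128 73344 = true := by decide +kernel

theorem lift9_run63 : rangeAll liftOK 128 73472 = true := by decide +kernel

theorem lift9_run64 : rangeAll liftOK 128 73600 = true := by decide +kernel

theorem lift_part9 (P : Below liftOK 65536) : Below liftOK 73728 :=
  ((((((((((((((((((((((((((((((((((((((((((((((((((((((((((((((((P.step (b := 65664) lift9_run1 rfl).step (b := 65792) lift9_run2 rfl).step (b := 65920) lift9_run3 rfl).step (b := 66048) lift9_run4 rfl).step (b := 66176) lift9_run5 rfl).step (b := 66304) lift9_run6 rfl).step (b := 66432) lift9_run7 rfl).step (b := 66560) lift9_run8 rfl).step (b := 66688) lift9_run9 rfl).step (b := 66816) lift9_run10 rfl).step (b := 66944) lift9_run11 rfl).step (b := 67072) lift9_run12 rfl).step (b := 67200) lift9_run13 rfl).step (b := 67328) lift9_run14 rfl).step (b := 67456) lift9_run15 rfl).step (b := 67584) lift9_run16 rfl).step (b := 67712) lift9_run17 rfl).step (b := 67840) lift9_run18 rfl).step (b := 67968) lift9_run19 rfl).step (b := 68096) lift9_run20 rfl).step (b := 68224) lift9_run21 rfl).step (b := 68352) lift9_run22 rfl).step (b := 68480) lift9_run23 rfl).step (b := 68608) lift9_run24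 rfl).step (b := 68736) lift9_run25 rfl).step (b := 68864) lift9_run26 rfl).step (b := 68992) lift9_run27 rfl).step (b := 69120) lift9_run28 rfl).step (b := 69248) lift9_run29 rfl).step (b := 69376) lift9_run30 rfl).step (b := 69504) lift9_run31 rfl).step (b := 69632) lift9_run32 rfl).step (b := 69760) lift9_run33 rfl).step (b := 69888) lift9_run34 rfl).step (b := 70016) lift9_run35 rfl).step (b := 70144) lift9_run36 rfl).step (b := 70272) lift9_run37 rfl).step (b := 70400) lift9_run38 rfl).step (b := 70528) lift9_run39 rfl).step (b := 70656) lift9_run40 rfl).step (b := 70784) lift9_run41 rfl).step (b := 70912) lift9_run42 rfl).step (b := 71040) lift9_run43 rfl).step (b := 71168) lift9_run44 rfl).step (b := 71296) lift9_run45 rfl).step (b := 71424) lift9_run46 rfl).step (b := 71552) lift9_run47 rfl).step (b := 71680) lift9_run48 rfl).step (b := 71808) lift9_run49 rfl).step (b := 71936) lift9_run50 rfl).step (b := 72064) lift9_run51 rfl).step (b := 72192) lift9_run52 rfl).step (b := 72320) lift9_run53 rfl).step (b := 72448) lift9_run54 rfl).step (b := 72576) lift9_run55 rfl).step (b := 72704) lift9_run56 rfl).step (b := 72832) lift9_run57 rfl).step (b := 72960) lift9_run58 rfl).step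 (b := 73088) lift9_run59 rfl).step (b := 73216) lift9_run60 rfl).step (b := 73344) lift9_run61 rfl).step (b := 73472) lift9_run62 rfl).step (b := 73600) lift9_run63 rfl).step (b := 73728) lift9_run64 rfl)

end Cfsg.Agent.Lib.Compute.Sporadic.ON
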