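import Cfsg.Agent.Lib.Compute.Sporadic.ON.LiftOK1
import Cfsg.Agent.Lib.Compute.Sporadic.ON.LiftOK2
import Cfsg.Agent.Lib.Compute.Sporadic.ON.LiftOK3
import Cfsg.Agent.Lib.Compute.Sporadic.ON.LiftOK4
import Cfsg.Agent.Lib.Compute.Sporadic.ON.LiftOK5
import Cfsg.Agent.Lib.Compute.Sporadic.ON.LiftOK6
import Cfsg.Agent.Lib.Compute.Sporadic.ON.LiftOK7
import Cfsg.Agent.Lib.Compute.Sporadic.ON.LiftOK8
import Cfsg.Agent.Lib.Compute.Sporadic.ON.LiftOK9
import Cfsg.Agent.Lib.Compute.Sporadic.ON.LiftOK10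
import Cfsg.Agent.Lib.Compute.Sporadic.ON.LiftOK11
import Cfsg.Agent.Lib.Compute.Sporadic.ON.LiftOK12
import Cfsg.Agent.Lib.Compute.Sporadic.ON.LiftOK13
import Cfsg.Agent.Lib.Compute.Sporadic.ON.LiftOK14
import Cfsg.Agent.Lib.Compute.Sporadic.ON.LiftOK15

/-! Generated checks: relator charges. -/

set_option autoImplicit false
set_option Elab.async false

namespace Cfsg.Agent.Lib.Compute.Sporadic.ON

open Cfsg.Agent.Lib.CosetTable

theorem lift_ok : Below liftOK 122760 :=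
  (lift_part15 (lift_part14 (lift_part13 (lift_part12 (lift_part11 (lift_part10 (lift_part9 (lift_part8 (lift_part7 (lift_part6 (lift_part5 (lift_part4 (lift_part3 (lift_part2 (lift_part1 (Below.zero _))))))))))))))))

end Cfsg.Agent.Lib.Compute.Sporadic.ON
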