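import Cfsg.Agent.Lib.Compute.Sporadic.ON.Charge

/-! Generated checks: relator charges. -/

set_option autoImplicit false
set_option Elab.async false

namespace Cfsg.Agent.Lib.Compute.Sporadic.ON

open Cfsg.Agent.Lib.CosetTable

theorem lift1_run1 : rangeAll liftOK 128 0 = true := by decide +kernel

theorem lift1_run2 : rangeAll liftOK 128 128 = true := by decide +kernel

theorem lift1_run3 : rangeAll liftOK 128 256 = true := by decide +kernel

theorem lift1_run4 : rangeAll liftOK 128 384 = true := by decide +kernel

theorem lift1_run5 : rangeAll liftOK 128 512 = true := by decide +kernel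

theorem lift1_run6 : rangeAll liftOK 128 640 = true := by decide +kernel

theorem lift1_run7 : rangeAll liftOK 128 768 = true := by decide +kernel

theorem lift1_run8 : rangeAll liftOK 128 896 = true := by decide +kernel

theorem lift1_run9 : rangeAll liftOK 128 1024 = true := by decide +kernel

theorem lift1_run10 : rangeAll liftOK 128 1152 = true := by decide +kernel

theorem lift1_run11 : rangeAll liftOK 128 1280 = true := by decide +kernel

theorem lift1_run12 : rangeAll liftOK 128 1408 = true := by decide +kernel

theorem lift1_run13 : rangeAll liftOK 128 1536 = true := by decide +kernel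

theorem lift1_run14 : rangeAll liftOK 128 1664 = true := by decide +kernel

theorem lift1_run15 : rangeAll liftOK 128 1792 = true := by decide +kernel

theorem lift1_run16 : rangeAll liftOK 128 1920 = true := by decide +kernel

theorem lift1_run17 : rangeAll liftOK 128 2048 = true := by decide +kernel

theorem lift1_run18 : rangeAll liftOK 128 2176 = true := by decide +kernel

theorem lift1_run19 : rangeAll liftOK 128 2304 = true := by decide +kernel

theorem lift1_run20 : rangeAll liftOK 128 2432 = true := by decide +kernel

theorem lift1_run21 : rangeAll liftOK 128 2560 = true := by decide +kernel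

theorem lift1_run22 : rangeAll liftOK 128 2688 = true := by decide +kernel

theorem lift1_run23 : rangeAll liftOK 128 2816 = true := by decide +kernel

theorem lift1_run24 : rangeAll liftOK 128 2944 = true := by decide +kernel

theorem lift1_run25 : rangeAll liftOK 128 3072 = true := by decide +kernel

theorem lift1_run26 : rangeAll liftOK 128 3200 = true := by decide +kernel

theorem lift1_run27 : rangeAll liftOK 128 3328 = true := by decide +kernel

theorem lift1_run28 : rangeAll liftOK 128 3456 = true := by decide +kernel

theorem lift1_run29 : rangeAll liftOK 128 3584 = true := by decide +kernel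

theorem lift1_run30 : rangeAll liftOK 128 3712 = true := by decide +kernel

theorem lift1_run31 : rangeAll liftOK 128 3840 = true := by decide +kernel

theorem lift1_run32 : rangeAll liftOK 128 3968 = true := by decide +kernel

theorem lift1_run33 : rangeAll liftOK 128 4096 = true := by decide +kernel

theorem lift1_run34 : rangeAll liftOK 128 4224 = true := by decide +kernel

theorem lift1_run35 : rangeAll liftOK 128 4352 = true := by decide +kernel

theorem lift1_run36 : rangeAll liftOK 128 4480 = true := by decide +kernel

theorem lift1_run37 : rangeAll liftOK 128 4608 = true := by decide +kernel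

theorem lift1_run38 : rangeAll liftOK 128 4736 = true := by decide +kernel

theorem lift1_run39 : rangeAll liftOK 128 4864 = true := by decide +kernel

theorem lift1_run40 : rangeAll liftOK 128 4992 = true := by decide +kernel

theorem lift1_run41 : rangeAll liftOK 128 5120 = true := by decide +kernel

theorem lift1_run42 : rangeAll liftOK 128 5248 = true := by decide +kernel

theorem lift1_run43 : rangeAll liftOK 128 5376 = true := by decide +kernel

theorem lift1_run44 : rangeAll liftOK 128 5504 = true := by decide +kernel

theorem lift1_run45 : rangeAll liftOK 128 5632 = true := by decide +kernel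

theorem lift1_run46 : rangeAll liftOK 128 5760 = true := by decide +kernel

theorem lift1_run47 : rangeAll liftOK 128 5888 = true := by decide +kernel

theorem lift1_run48 : rangeAll liftOK 128 6016 = true := by decide +kernel

theorem lift1_run49 : rangeAll liftOK 128 6144 = true := by decide +kernel

theorem lift1_run50 : rangeAll liftOK 128 6272 = true := by decide +kernel

theorem lift1_run51 : rangeAll liftOK 128 6400 = true := by decide +kernel

theorem lift1_run52 : rangeAll liftOK 128 6528 = true := by decide +kernel

theorem lift1_run53 : rangeAll liftOK 128 6656 = true := by decide +kernel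

theorem lift1_run54 : rangeAll liftOK 128 6784 = true := by decide +kernel

theorem lift1_run55 : rangeAll liftOK 128 6912 = true := by decide +kernel

theorem lift1_run56 : rangeAll liftOK 128 7040 = true := by decide +kernel

theorem lift1_run57 : rangeAll liftOK 128 7168 = true := by decide +kernel

theorem lift1_run58 : rangeAll liftOK 128 7296 = true := by decide +kernel

theorem lift1_run59 : rangeAll liftOK 128 7424 = true := by decide +kernel

theorem lift1_run60 : rangeAll liftOK 128 7552 = true := by decide +kernel

theorem lift1_run61 : rangeAll liftOK 128 7680 = true := by decide +kernel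

theorem lift1_run62 : rangeAll liftOK 128 7808 = true := by decide +kernel

theorem lift1_run63 : rangeAll liftOK 128 7936 = true := by decide +kernel

theorem lift1_run64 : rangeAll liftOK 128 8064 = true := by decide +kernel

theorem lift_part1 (P : Below liftOK 0) : Below liftOK 8192 :=
  ((((((((((((((((((((((((((((((((((((((((((((((((((((((((((((((((P.step (b := 128) lift1_run1 rfl).step (b := 256) lift1_run2 rfl).step (b := 384) lift1_run3 rfl).step (b := 512) lift1_run4 rfl).step (b := 640) lift1_run5 rfl).step (b := 768) lift1_run6 rfl).step (b := 896) lift1_run7 rfl).step (b := 1024) lift1_run8 rfl).step (b := 1152) lift1_run9 rfl).step (b := 1280) lift1_run10 rfl).step (b := 1408) lift1_run11 rfl).step (b := 1536) lift1_run12 rfl).step (b := 1664) lift1_run13 rfl).step (b := 1792) lift1_run14 rfl).step (b := 1920) lift1_run15 rfl).step (b := 2048) lift1_run16 rfl).step (b := 2176) lift1_run17 rfl).step (b := 2304) lift1_run18 rfl).step (b := 2432) lift1_run19 rfl).step (b := 2560) lift1_run20 rfl).step (b := 2688) lift1_run21 rfl).step (b := 2816) lift1_run22 rfl).step (b := 2944) lift1_run23 rfl).step (b := 3072) lift1_run24 rfl).step (b := 3200)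 lift1_run25 rfl).step (b := 3328) lift1_run26 rfl).step (b := 3456) lift1_run27 rfl).step (b := 3584) lift1_run28 rfl).step (b := 3712) lift1_run29 rfl).step (b := 3840) lift1_run30 rfl).step (b := 3968) lift1_run31 rfl).step (b := 4096) lift1_run32 rfl).step (b := 4224) lift1_run33 rfl).step (b := 4352) lift1_run34 rfl).step (b := 4480) lift1_run35 rfl).step (b := 4608) lift1_run36 rfl).step (b := 4736) lift1_run37 rfl).step (b := 4864) lift1_run38 rfl).step (b := 4992) lift1_run39 rfl).step (b := 5120) lift1_run40 rfl).step (b := 5248) lift1_run41 rfl).step (b := 5376) lift1_run42 rfl).step (b := 5504) lift1_run43 rfl).step (b := 5632) lift1_run44 rfl).step (b := 5760) lift1_run45 rfl).step (b := 5888) lift1_run46 rfl).step (b := 6016) lift1_run47 rfl).step (b := 6144) lift1_run48 rfl).step (b := 6272) lift1_run49 rfl).step (b := 6400) lift1_run50 rfl).step (b := 6528) lift1_run51 rfl).step (b := 6656) lift1_run52 rfl).step (b := 6784) lift1_run53 rfl).step (b := 6912) lift1_run54 rfl).step (b := 7040) lift1_run55 rfl).step (b := 7168) lift1_run56 rfl).step (b := 7296) lift1_run57 rfl).step (b := 7424) lift1_run58 rfl).step (b := 7552) lift1_run59 rfl).step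 (b := 7680) lift1_run60 rfl).step (b := 7808) lift1_run61 rfl).step (b := 7936) lift1_run62 rfl).step (b := 8064) lift1_run63 rfl).step (b := 8192) lift1_run64 rfl)

end Cfsg.Agent.Lib.Compute.Sporadic.ON
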