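import Cfsg.Agent.Lib.Compute.Sporadic.ON.Charge

/-! Generated checks: relator charges. -/

set_option autoImplicit false
set_option Elab.async false

namespace Cfsg.Agent.Lib.Compute.Sporadic.ON

open Cfsg.Agent.Lib.CosetTable

theorem lift10_run1 : rangeAll liftOK 128 73728 = true := by decide +kernel

theorem lift10_run2 : rangeAll liftOK 128 73856 = true := by decide +kernel

theorem lift10_run3 : rangeAll liftOK 128 73984 = true := by decide +kernel

theorem lift10_run4 : rangeAll liftOK 128 74112 = true := by decide +kernel

theorem lift10_run5 : rangeAll liftOK 128 74240 = true := by decide +kernel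

theorem lift10_run6 : rangeAll liftOK 128 74368 = true := by decide +kernel

theorem lift10_run7 : rangeAll liftOK 128 74496 = true := by decide +kernel

theorem lift10_run8 : rangeAll liftOK 128 74624 = true := by decide +kernel

theorem lift10_run9 : rangeAll liftOK 128 74752 = true := by decide +kernel

theorem lift10_run10 : rangeAll liftOK 128 74880 = true := by decide +kernel

theorem lift10_run11 : rangeAll liftOK 128 75008 = true := by decide +kernel

theorem lift10_run12 : rangeAll liftOK 128 75136 = true := by decide +kernel

theorem lift10_run13 : rangeAll liftOK 128 75264 = true := by decide +kernel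

theorem lift10_run14 : rangeAll liftOK 128 75392 = true := by decide +kernel

theorem lift10_run15 : rangeAll liftOK 128 75520 = true := by decide +kernel

theorem lift10_run16 : rangeAll liftOK 128 75648 = true := by decide +kernel

theorem lift10_run17 : rangeAll liftOK 128 75776 = true := by decide +kernel

theorem lift10_run18 : rangeAll liftOK 128 75904 = true := by decide +kernel

theorem lift10_run19 : rangeAll liftOK 128 76032 = true := by decide +kernel

theorem lift10_run20 : rangeAll liftOK 128 76160 = true := by decide +kernel

theorem lift10_run21 : rangeAll liftOK 128 76288 = true := by decide +kernel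

theorem lift10_run22 : rangeAll liftOK 128 76416 = true := by decide +kernel

theorem lift10_run23 : rangeAll liftOK 128 76544 = true := by decide +kernel

theorem lift10_run24 : rangeAll liftOK 128 76672 = true := by decide +kernel

theorem lift10_run25 : rangeAll liftOK 128 76800 = true := by decide +kernel

theorem lift10_run26 : rangeAll liftOK 128 76928 = true := by decide +kernel

theorem lift10_run27 : rangeAll liftOK 128 77056 = true := by decide +kernel

theorem lift10_run28 : rangeAll liftOK 128 77184 = true := by decide +kernel

theorem lift10_run29 : rangeAll liftOK 128 77312 = true := by decide +kernel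

theorem lift10_run30 : rangeAll liftOK 128 77440 = true := by decide +kernel

theorem lift10_run31 : rangeAll liftOK 128 77568 = true := by decide +kernel

theorem lift10_run32 : rangeAll liftOK 128 77696 = true := by decide +kernel

theorem lift10_run33 : rangeAll liftOK 128 77824 = true := by decide +kernel

theorem lift10_run34 : rangeAll liftOK 128 77952 = true := by decide +kernel

theorem lift10_run35 : rangeAll liftOK 128 78080 = true := by decide +kernel

theorem lift10_run36 : rangeAll liftOK 128 78208 = true := by decide +kernel

theorem lift10_run37 : rangeAll liftOK 128 78336 = true := by decide +kernel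

theorem lift10_run38 : rangeAll liftOK 128 78464 = true := by decide +kernel

theorem lift10_run39 : rangeAll liftOK 128 78592 = true := by decide +kernel

theorem lift10_run40 : rangeAll liftOK 128 78720 = true := by decide +kernel

theorem lift10_run41 : rangeAll liftOK 128 78848 = true := by decide +kernel

theorem lift10_run42 : rangeAll liftOK 128 78976 = true := by decide +kernel

theorem lift10_run43 : rangeAll liftOK 128 79104 = true := by decide +kernel

theorem lift10_run44 : rangeAll liftOK 128 79232 = true := by decide +kernel

theorem lift10_run45 : rangeAll liftOK 128 79360 = true := by decide +kernel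

theorem lift10_run46 : rangeAll liftOK 128 79488 = true := by decide +kernel

theorem lift10_run47 : rangeAll liftOK 128 79616 = true := by decide +kernel

theorem lift10_run48 : rangeAll liftOK 128 79744 = true := by decide +kernel

theorem lift10_run49 : rangeAll liftOK 128 79872 = true := by decide +kernel

theorem lift10_run50 : rangeAll liftOK 128 80000 = true := by decide +kernel

theorem lift10_run51 : rangeAll liftOK 128 80128 = true := by decide +kernel

theorem lift10_run52 : rangeAll liftOK 128 80256 = true := by decide +kernel

theorem lift10_run53 : rangeAll liftOK 128 80384 = true := by decide +kernel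

theorem lift10_run54 : rangeAll liftOK 128 80512 = true := by decide +kernel

theorem lift10_run55 : rangeAll liftOK 128 80640 = true := by decide +kernel

theorem lift10_run56 : rangeAll liftOK 128 80768 = true := by decide +kernel

theorem lift10_run57 : rangeAll liftOK 128 80896 = true := by decide +kernel

theorem lift10_run58 : rangeAll liftOK 128 81024 = true := by decide +kernel

theorem lift10_run59 : rangeAll liftOK 128 81152 = true := by decide +kernel

theorem lift10_run60 : rangeAll liftOK 128 81280 = true := by decide +kernel

theorem lift10_run61 : rangeAll liftOK 128 81408 = true := by decide +kernel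

theorem lift10_run62 : rangeAll liftOK 128 81536 = true := by decide +kernel

theorem lift10_run63 : rangeAll liftOK 128 81664 = true := by decide +kernel

theorem lift10_run64 : rangeAll liftOK 128 81792 = true := by decide +kernel

theorem lift_part10 (P : Below liftOK 73728) : Below liftOK 81920 :=
  ((((((((((((((((((((((((((((((((((((((((((((((((((((((((((((((((P.step (b := 73856) lift10_run1 rfl).step (b := 73984) lift10_run2 rfl).step (b := 74112) lift10_run3 rfl).step (b := 74240) lift10_run4 rfl).step (b := 74368) lift10_run5 rfl).step (b := 74496) lift10_run6 rfl).step (b := 74624) lift10_run7 rfl).step (b := 74752) lift10_run8 rfl).step (b := 74880) lift10_run9 rfl).step (b := 75008) lift10_run10 rfl).step (b := 75136) lift10_run11 rfl).step (b := 75264) lift10_run12 rfl).step (b := 75392) lift10_run13 rfl).step (b := 75520) lift10_run14 rfl).step (b := 75648) lift10_run15 rfl).step (b := 75776) lift10_run16 rfl).step (b := 75904) lift10_run17 rfl).step (b := 76032) lift10_run18 rfl).step (b := 76160) lift10_run19 rfl).step (b := 76288) lift10_run20 rfl).step (b := 76416) lift10_run21 rfl).step (b := 76544) lift10_run22 rfl).step (b := 76672) lift10_run23 rfl).step (b := 76800) lift10_run24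 rfl).step (b := 76928) lift10_run25 rfl).step (b := 77056) lift10_run26 rfl).step (b := 77184) lift10_run27 rfl).step (b := 77312) lift10_run28 rfl).step (b := 77440) lift10_run29 rfl).step (b := 77568) lift10_run30 rfl).step (b := 77696) lift10_run31 rfl).step (b := 77824) lift10_run32 rfl).step (b := 77952) lift10_run33 rfl).step (b := 78080) lift10_run34 rfl).step (b := 78208) lift10_run35 rfl).step (b := 78336) lift10_run36 rfl).step (b := 78464) lift10_run37 rfl).step (b := 78592) lift10_run38 rfl).step (b := 78720) lift10_run39 rfl).step (b := 78848) lift10_run40 rfl).step (b := 78976) lift10_run41 rfl).step (b := 79104) lift10_run42 rfl).step (b := 79232) lift10_run43 rfl).step (b := 79360) lift10_run44 rfl).step (b := 79488) lift10_run45 rfl).step (b := 79616) lift10_run46 rfl).step (b := 79744) lift10_run47 rfl).step (b := 79872) lift10_run48 rfl).step (b := 80000) lift10_run49 rfl).step (b := 80128) lift10_run50 rfl).step (b := 80256) lift10_run51 rfl).step (b := 80384) lift10_run52 rfl).step (b := 80512) lift10_run53 rfl).step (b := 80640) lift10_run54 rfl).step (b := 80768) lift10_run55 rfl).step (b := 80896) lift10_run56 rfl).step (b := 81024) lift10_run57 rfl).step (b := 81152) lift10_run58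 rfl).step (b := 81280) lift10_run59 rfl).step (b := 81408) lift10_run60 rfl).step (b := 81536) lift10_run61 rfl).step (b := 81664) lift10_run62 rfl).step (b := 81792) lift10_run63 rfl).step (b := 81920) lift10_run64 rfl)

end Cfsg.Agent.Lib.Compute.Sporadic.ON
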